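import Cfsg.Agent.SU4.Six.Defs
import Cfsg.Agent.MaxSub.CSixU.Plane

/-!
With quarter turns only in pairs: if the centraliser of an involution of `R` gives all transvections
on its fixed space, or contains a controlled rotation in characteristic three, then `G` contains
all transvections.
-/

set_option autoImplicit false
set_option linter.unusedSectionVars false

namespace Cfsg.Agent.SU4.Six

open Cfsg.Agent.MaxSub CSixU CSix Module Classical.U DecompMax.UN

universe u

variable {F : Type u} [Field F] {n m q : ℕ} (hF : SqField F q)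
include hF

/-- The mixing lemma, with a single element mixing the blocks. -/
theorem all_ctr_of_blocks (hm : 2 ≤ m) (hq2 : q ≠ 2) {i : F} (hi : i * i = -1) (hiq : i ^ q = -i)
    (h2 : (2 : F) ≠ 0) (Φ : ((Fin m → F) × (Fin m → F)) ≃ₗ[F] (Fin n → F))
    (hΦ : ∀ u v u' v', herm q (Φ (u, v)) (Φ (u', v')) = herm q u u' + herm q v v')
    {M : Subgroup (UG n F q)} {W : UG n F q} (hW : W ∈ M)
    (hWa : ∀ u v, W.1 (Φ (u, v)) = (1 + i)⁻¹ • Φ (u + i • v, u - i • v))
    (hL : ∀ e, herm q e e = 0 → Φ (e, 0) ∈ ctr hF M)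
    (hR : ∀ e, herm q e e = 0 → Φ (0, e) ∈ ctr hF M)
    {z : Fin n → F} (hz : herm q z z = 0) : z ∈ ctr hF M := by
  have hi0 : i ≠ 0 := fun h => by simp [h] at hi
  have hi1 : (1 + i : F) ≠ 0 := by
    intro h
    have : (1 + i) * (1 - i) = 2 := by linear_combination -hi
    rw [h, zero_mul] at this
    exact h2 this.symm
  have hST := SUG_eq_TG hF hm (fun h => hq2 h.2)
  -- the transvections of the two blocks
  have hleft : ∀ g ∈ TG m F q, ∀ u v, Φ (g.1 u, v) ∈ ctr hF M ↔ Φ (u, v) ∈ ctr hF M := by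
    intro g hg
    induction hg using Subgroup.closure_induction with
    | mem g hg =>
      obtain ⟨e, a, hc, hg⟩ := hg
      intro u v
      have hc' : TrvCond q (Φ (e, 0)) a :=
        ⟨by rw [hΦ, hc.1, herm_zero_left, add_zero], hc.2⟩
      rw [← mem_ctr_iff_map hF ((hL e hc.1).2 a hc') (e := Φ (u, v)), trv_apply, hΦ,
        hF.herm_zero_right, add_zero, ← map_smul, ← map_add, Prod.smul_mk, Prod.mk_add_mk,
        smul_zero, add_zero, hg]
    | one => simp
    | mul g k _ _ ihg ihk =>
      intro u v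
      rw [Subgroup.coe_mul, LinearEquiv.mul_apply, ihg, ihk]
    | inv g _ ih =>
      intro u v
      rw [← ih ((g⁻¹ : UG m F q).1 u) v]
      simp
  have hright : ∀ g ∈ TG m F q, ∀ u v, Φ (u, g.1 v) ∈ ctr hF M ↔ Φ (u, v) ∈ ctr hF M := by
    intro g hg
    induction hg using Subgroup.closure_induction with
    | mem g hg =>
      obtain ⟨e, a, hc, hg⟩ := hg
      intro u v
      have hc' : TrvCond q (Φ (0, e)) a :=
        ⟨by rw [hΦ, hc.1, herm_zero_left, zero_add], hc.2⟩
      rw [← mem_ctr_iff_map hF ((hR e hc.1).2 a hc') (e := Φ (u, v)), trv_apply, hΦ,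
        hF.herm_zero_right, zero_add, ← map_smul, ← map_add, Prod.smul_mk, Prod.mk_add_mk,
        smul_zero, add_zero, hg]
    | one => simp
    | mul g k _ _ ihg ihk =>
      intro u v
      rw [Subgroup.coe_mul, LinearEquiv.mul_apply, ihg, ihk]
    | inv g _ ih =>
      intro u v
      rw [← ih u ((g⁻¹ : UG m F q).1 v)]
      simp
  -- a centre with parts of non-zero value
  obtain ⟨k, rfl⟩ := Nat.exists_eq_add_of_le' hm
  obtain ⟨θ, l, hp, -⟩ := exists_std_pair hF k
  set v : Fin (k + 2) → F := Pi.single 0 1 + θ • Pi.single 1 1 with hv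
  set f : Fin (k + 2) → F := Pi.single 0 1 + l • v with hf
  obtain ⟨d, hd, hdq⟩ := hF.exists_skew
  have hfv : herm q f v = 1 := (hp.symm hF).2.2
  have hp2 : Φ (v, v) ∈ ctr hF M := by
    have := ctr_smul hF (ctr_map hF (hL v hp.1) hW) (1 + i)
    rwa [hWa, smul_smul, mul_inv_cancel₀ hi1, one_smul, smul_zero, add_zero, sub_zero] at this
  set g := trv hF (show TrvCond q f d from ⟨hp.2.1, hdq⟩) with hg
  have hgv : g.1 v = v + d • f := by rw [hg, trv_apply, hp.2.2, mul_one]
  have hp3 : Φ (v + d • f, v) ∈ ctr hF M := by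
    rw [← hgv]; exact (hleft g (trv_mem hF _) v v).2 hp2
  have hp4 : Φ (v + d • f + i • v, v + d • f - i • v) ∈ ctr hF M := by
    have := ctr_smul hF (ctr_map hF hp3 hW) (1 + i)
    rwa [hWa, smul_smul, mul_inv_cancel₀ hi1, one_smul] at this
  set c₀ := herm q (v + d • f + i • v) (v + d • f + i • v) with hc₀def
  have hc₀ : c₀ = -2 * i * d := by
    rw [hc₀def]
    simp only [herm_add_left, hF.herm_add_right, herm_smul_left, herm_smul_right, hp.1, hp.2.1,
      hp.2.2, hfv, hdq, hiq]
    ring
  have hc₀0 : c₀ ≠ 0 := by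
    rw [hc₀]; exact mul_ne_zero (mul_ne_zero (neg_ne_zero.2 h2) hi0) hd
  -- all centres with parts of non-zero value
  have hgen : ∀ x y : Fin (k + 2) → F, herm q x x ≠ 0 →
      herm q x x + herm q y y = 0 → Φ (x, y) ∈ ctr hF M := by
    intro x y hx hxy
    obtain ⟨μ, hμ⟩ := hF.exists_norm (c := herm q x x / c₀)
      (by rw [div_pow, hF.herm_symm, hc₀def, hF.herm_symm])
    have hμn : μ * μ ^ q * c₀ = herm q x x := by
      rw [← pow_succ', hμ, div_mul_cancel₀ _ hc₀0]
    have hP := ctr_smul hF hp4 μ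
    rw [← map_smul, Prod.smul_mk] at hP
    set x₀ := μ • (v + d • f + i • v) with hx₀
    set y₀ := μ • (v + d • f - i • v) with hy₀
    have hxx : herm q x₀ x₀ = herm q x x := by
      rw [hx₀, herm_smul_left, herm_smul_right, ← mul_assoc, ← hc₀def, hμn]
    have hyy : herm q y₀ y₀ = herm q y y := by
      have h0 := hP.1
      rw [hΦ, hxx] at h0
      linear_combination h0 - hxy
    obtain ⟨g₁, hg₁, e₁⟩ := TensorU.SUG_transitive_norm hF (by omega) hxx (by rw [hxx]; exact hx)
    have hy : herm q y y ≠ 0 := fun h => hx (by linear_combination hxy - h)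
    obtain ⟨g₂, hg₂, e₂⟩ := TensorU.SUG_transitive_norm hF (by omega) hyy (by rw [hyy]; exact hy)
    rw [← e₁, ← e₂, hleft g₁ (hST ▸ hg₁), hright g₂ (hST ▸ hg₂)]
    exact hP
  -- the remaining points
  obtain ⟨⟨x, y⟩, rfl⟩ := Φ.surjective z
  rw [hΦ] at hz
  by_cases hx : herm q x x = 0
  swap
  · exact hgen x y hx hz
  have hy : herm q y y = 0 := by linear_combination hz - hx
  rcases eq_or_ne x 0 with rfl | hx0
  · exact hR y hy
  rcases eq_or_ne y 0 with rfl | hy0
  · exact hL x hx
  obtain ⟨e, he, hxe, -⟩ := exists_isotropic_not_orth hF hx0 hx hx0 hx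
  obtain ⟨e', he', hye, -⟩ := exists_isotropic_not_orth hF hy0 hy hy0 hy
  obtain ⟨s, hs, hsum⟩ : ∃ s : F, (s = 1 ∨ s = -1) ∧
      herm q x e + s * herm q y e' ≠ 0 := by
    by_contra hcon
    push Not at hcon
    have h1 := hcon 1 (Or.inl rfl)
    have h2' := hcon (-1) (Or.inr rfl)
    exact hxe ((mul_eq_zero.1 (show (2 : F) * herm q x e = 0 by linear_combination h1 + h2')).resolve_left h2)
  have hs2 : s * s = 1 := by rcases hs with rfl | rfl <;> ring
  have hsq : s ^ q = s := by
    rcases hs with rfl | rfl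
    · exact one_pow q
    · rw [hF.neg_pow, one_pow]
  set x' := e + (herm q x e)⁻¹ • x with hx'
  set y' := s • e' - (s * herm q y e')⁻¹ • y with hy'
  have hs0 : s ≠ 0 := fun h => by simp [h] at hs2
  have hxx' : herm q x' x' = 2 := by
    rw [hx']
    simp only [herm_add_left, hF.herm_add_right, herm_smul_left, herm_smul_right, he, hx,
      inv_pow]
    rw [← hF.herm_symm x e]
    field_simp
    ring
  have hyy' : herm q y' y' = -2 := by
    rw [hy']
    simp only [herm_sub_left, hF.herm_sub_right, herm_smul_left, herm_smul_right, he', hy,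
      inv_pow, mul_pow, hsq]
    rw [← hF.herm_symm y e']
    field_simp
    ring
  have hw : Φ (x', y') ∈ ctr hF M :=
    hgen x' y' (by rw [hxx']; exact h2) (by rw [hxx', hyy']; ring)
  have hxh : herm q x x' = herm q x e := by
    rw [hx', hF.herm_add_right, herm_smul_right, hx, mul_zero, add_zero]
  have hyh : herm q y y' = s * herm q y e' := by
    rw [hy', hF.herm_sub_right, herm_smul_right, herm_smul_right, hy, mul_zero, sub_zero, hsq]
  set h := herm q (Φ (x, y)) (Φ (x', y')) with hdef
  have hh : h = herm q x e + s * herm q y e' := by rw [hdef, hΦ, hxh, hyh]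
  have hh0 : h ≠ 0 := by rw [hh]; exact hsum
  -- move along the line
  set k₀ := d * h with hk₀
  have htr : k₀ ^ q * h + k₀ * h ^ q = 0 := by rw [hk₀, mul_pow, hdq]; ring
  obtain ⟨σ, hσ, hσne⟩ : ∃ σ : F, (σ = 1 ∨ σ = -1) ∧
      herm q (x + (σ * k₀) • x') (x + (σ * k₀) • x') ≠ 0 := by
    by_contra hcon
    push Not at hcon
    have h1 := hcon 1 (Or.inl rfl)
    have h3 := hcon (-1) (Or.inr rfl)
    simp only [herm_add_left, hF.herm_add_right, herm_smul_left, herm_smul_right, hx, hxx',
      one_mul, neg_mul, hF.neg_pow] at h1 h3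
    have h4 : (2 : F) * 2 * (k₀ * k₀ ^ q) = 0 := by linear_combination h1 + h3
    exact mul_ne_zero (mul_ne_zero h2 h2) (mul_ne_zero (mul_ne_zero hd hh0)
      (pow_ne_zero _ (mul_ne_zero hd hh0))) h4
  have hσq : σ ^ q = σ := by
    rcases hσ with rfl | rfl
    · exact one_pow q
    · rw [hF.neg_pow, one_pow]
  set j := σ * k₀ with hj
  have hz' : Φ (x, y) + j • Φ (x', y') ∈ ctr hF M := by
    have hi2 : herm q (Φ (x, y) + j • Φ (x', y')) (Φ (x, y) + j • Φ (x', y')) = 0 := by
      simp only [herm_add_left, hF.herm_add_right, herm_smul_left, herm_smul_right, hw.1]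
      rw [show herm q (Φ (x, y)) (Φ (x, y)) = 0 by rw [hΦ]; exact hz, ← hdef,
        ← hF.herm_symm (Φ (x, y)) (Φ (x', y')), ← hdef, hj, mul_pow, hσq]
      linear_combination σ * htr
    rw [← map_smul, ← map_add, Prod.smul_mk, Prod.mk_add_mk] at hi2 ⊢
    refine hgen _ _ hσne ?_
    rwa [hΦ] at hi2
  have hne : herm q (Φ (x, y) + j • Φ (x', y')) (Φ (x', y')) ≠ 0 := by
    rw [herm_add_left, herm_smul_left, hw.1, mul_zero, add_zero]; exact hh0
  have := ctr_line hF hz' hw hne (α := 1) (β := -j) (by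
    rw [one_smul, neg_smul, add_neg_cancel_right, hΦ]; exact hz)
  rwa [one_smul, neg_smul, add_neg_cancel_right] at this

variable {i : F} {R G : Set (Module.End F (Fin n → F))}

/-- All transvections from a fixed space with all transvections. -/
theorem allTrv_of_source [Finite F] (hq : q.Prime) (hq4 : q % 4 = 3) (hD : Data i R)
    (hG : PGrp i R G) (hR : Isom q R) (hU : Simil q G) (hm : 2 ≤ m)
    (hn : n = 2 * m) {x : Module.End F (Fin n → F)} (hxR : x ∈ R) (hx : x * x = 1) (hns : NS x)
    (j : (Fin m → F) ≃ₗ[F] Eig x)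
    (hj : ∀ u v, herm q (j u : Fin n → F) (j v) = herm q u v)
    (hsrc : ((m = 2 → 5 ≤ q) ∧ AllTrv hF (parR_grp (by omega) hD hG hxR hx hns j)) ∨
      ∀ e, herm q e e = 0 → (j e : Fin n → F) ∈ ctr hF (isoSub q (hG.scal hD))) : AllTrv hF (hG.scal hD) := by
  haveI : Nonempty (Fin n) := ⟨⟨0, by omega⟩⟩
  have : Nontrivial (Fin n → F) := Function.nontrivial
  have h2 := hD.two_ne
  have hi := hD.sq_i
  have hiq := i_pow hF hq4 hi
  have hq2 : q ≠ 2 := by omega
  obtain ⟨hi1, hnorm, hquot⟩ := isoSub_frame_data hF hi h2 hq4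
  obtain ⟨a, haR, ha, hxa⟩ := hD.exists_anticomm hxR hns
  have hax : ∀ v, x (a v) = -a (x v) := fun v => by
    simpa using congrArg (fun g : Module.End F (Fin n → F) => g v) hxa
  have haa : ∀ v, a (a v) = v := fun v => by
    simpa using congrArg (fun g : Module.End F (Fin n → F) => g v) ha
  have hxv : ∀ v, x (x v) = v := fun v => by
    simpa using congrArg (fun g : Module.End F (Fin n → F) => g v) hx
  have hxj : ∀ u, x (j u : Fin n → F) = (j u : Fin n → F) := fun u => mem_eig.1 (j u).2
  have hxaj : ∀ u, x (a (j u : Fin n → F)) = -a (j u : Fin n → F) := fun u => by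
    rw [hax, hxj]
  have hcross : ∀ u v, herm q (j u : Fin n → F) (a (j v : Fin n → F)) = 0 := by
    intro u v
    have h := hR x hxR (j u) (a (j v : Fin n → F))
    rw [hxj, hxaj, hF.herm_neg_right] at h
    exact (mul_eq_zero.1 (show (2 : F) * herm q (j u : Fin n → F) (a (j v : Fin n → F)) = 0 by
      linear_combination -h)).resolve_left h2
  -- the coordinates
  let Φ₀ : ((Fin m → F) × (Fin m → F)) →ₗ[F] (Fin n → F) :=
    ((Eig x).subtype ∘ₗ j.toLinearMap).coprod (a ∘ₗ (Eig x).subtype ∘ₗ j.toLinearMap)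
  have hΦ₀ : ∀ u v, Φ₀ (u, v) = (j u : Fin n → F) + a (j v : Fin n → F) := fun u v => by
    simp [Φ₀]
  have hherm : ∀ u v u' v', herm q (Φ₀ (u, v)) (Φ₀ (u', v')) = herm q u u' + herm q v v' := by
    intro u v u' v'
    rw [hΦ₀, hΦ₀, herm_add_left, hF.herm_add_right, hF.herm_add_right, hj, hcross,
      ← hF.herm_symm (j u' : Fin n → F), hcross, zero_pow hF.q_ne_zero, hR a haR, hj]
    ring
  have hinj : Function.Injective Φ₀ := by
    refine (injective_iff_map_eq_zero _).2 ?_
    rintro ⟨u, v⟩ h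
    have h1 : ∀ u' v', herm q u u' + herm q v v' = 0 := fun u' v' => by
      rw [← hherm, h, herm_zero_left]
    refine Prod.ext (hF.eq_zero_of_herm u fun u' => ?_) (hF.eq_zero_of_herm v fun v' => ?_)
    · simpa [hF.herm_zero_right] using h1 u' 0
    · simpa [hF.herm_zero_right] using h1 0 v'
  let Φ : ((Fin m → F) × (Fin m → F)) ≃ₗ[F] (Fin n → F) :=
    LinearEquiv.ofBijective Φ₀ ⟨hinj,
      (LinearMap.injective_iff_surjective_of_finrank_eq_finrank
        (by rw [Module.finrank_prod, Module.finrank_fin_fun, Module.finrank_fin_fun, hn, two_mul])).1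
        hinj⟩
  have hΦ : ∀ u v, Φ (u, v) = (j u : Fin n → F) + a (j v : Fin n → F) := hΦ₀
  set M := isoSub q (hG.scal hD) with hM
  -- elements given in coordinates
  have hmk : ∀ (g : Module.End F (Fin n → F)) (P : (Fin m → F) → (Fin m → F) → Fin n → F),
      g ∈ G → (∀ u v, g (Φ (u, v)) = P u v) →
      (∀ u v u' v', herm q (P u v) (P u' v') = herm q u u' + herm q v v') →
      ∃ k ∈ M, ∀ u v, k.1 (Φ (u, v)) = P u v := by
    intro g P hg hgP hP
    obtain ⟨k, hk, hkg⟩ := exists_mem_isoSub hF (hG.scal hD) hg (fun w z => by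
      obtain ⟨⟨u, v⟩, rfl⟩ := Φ.surjective w
      obtain ⟨⟨u', v'⟩, rfl⟩ := Φ.surjective z
      rw [hgP, hgP, hP, show herm q (Φ (u, v)) (Φ (u', v')) = _ from hherm u v u' v'])
    exact ⟨k, hk, fun u v => by rw [hkg, hgP]⟩
  -- the mixing element and the swap
  have hans : NS a := NS.of_anticomm h2 (by rw [hxa, neg_neg]) (by rw [ha]; exact one_ne_zero)
    hns.ne_zero
  obtain ⟨W, hW, hWa⟩ := hmk (((1 + i)⁻¹ * (1 + i)⁻¹) • ((1 + i • x) * (1 + i • a)))
    (fun u v => (1 + i)⁻¹ • Φ (u + i • v, u - i • v))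
    (hG.smul_mem' (mul_ne_zero (inv_ne_zero hi1) (inv_ne_zero hi1))
      (hG.pair_mem x hxR a haR hx ha hns hans))
    (fun u v => by
      simp only [LinearMap.smul_apply, LinearMap.add_apply, Module.End.mul_apply, Module.End.one_apply,
        hΦ, map_add, map_sub, map_smul, Submodule.coe_add, Submodule.coe_sub, Submodule.coe_smul,
        hxj, hxaj, haa]
      match_scalars <;> field_simp <;> first | ring1 | linear_combination hi | linear_combination -hi)
    (fun u v u' v' => by
      rw [herm_smul_left, herm_smul_right, show herm q (Φ (_, _)) (Φ (_, _)) = _ from hherm _ _ _ _]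
      simp only [herm_add_left, herm_sub_left, hF.herm_add_right, hF.herm_sub_right, herm_smul_left,
        herm_smul_right, hiq, inv_pow]
      have : (1 + i)⁻¹ * ((1 + i) ^ q)⁻¹ = (2 : F)⁻¹ := by rw [← mul_inv, hnorm]
      rw [← mul_assoc, this, inv_mul_eq_iff_eq_mul₀ h2]
      linear_combination -(2 * herm q v v') * hi)
  obtain ⟨A, hA, hAa⟩ := hmk a (fun u v => Φ (v, u)) (hG.sub haR)
    (fun u v => by rw [hΦ, hΦ, map_add, haa, add_comm])
    (fun u v u' v' => by
      rw [show herm q (Φ (_, _)) (Φ (_, _)) = _ from hherm _ _ _ _, add_comm])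
  -- an involution of `R` commuting with `x`, not scalar on the fixed space
  have hD' := parR_data (by omega) hD hxR hx j
  obtain ⟨φ, hφR, hφns, hφsq⟩ : ∃ φ ∈ ParR j R, NS φ ∧ φ * φ = 1 := by
    obtain ⟨φ, hφ, hφns⟩ : ∃ φ ∈ ParR j R, NS φ := by
      by_contra hcon
      push Not at hcon
      have hle : Submodule.span F (ParR j R) ≤ F ∙ (1 : Module.End F (Fin m → F)) :=
        Submodule.span_le.2 fun b hb => by
          by_contra h
          exact hcon b hb fun c hc =>
            h (hc ▸ Submodule.smul_mem _ c (Submodule.mem_span_singleton_self _))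
      rw [hD'.span_eq] at hle
      haveI : Nonempty (Fin m) := ⟨⟨0, by omega⟩⟩
      have h1 : finrank F (⊤ : Submodule F (Module.End F (Fin m → F))) ≤ 1 :=
        (Submodule.finrank_mono hle).trans (finrank_span_singleton one_ne_zero).le
      rw [finrank_top, Module.finrank_linearMap, Module.finrank_fin_fun] at h1
      have : 4 ≤ m * m := le_trans (by norm_num) (Nat.mul_le_mul hm hm)
      omega
    obtain ⟨c, hc, hcm, hcs⟩ := hD'.exists_sq_one hφ
    exact ⟨_, hcm, hφns.smul hc, hcs⟩
  obtain ⟨r, hrR, hrx, hrj⟩ := (mem_parR j).1 hφR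
  haveI : Nonempty (Fin m) := ⟨⟨0, by omega⟩⟩
  have hr : r * r = 1 := by
    refine (hD.sq_sign r hrR).resolve_right fun h => ?_
    obtain ⟨u, hu⟩ := exists_ne (0 : Fin m → F)
    have h1 := congrArg (fun g : Module.End F (Fin n → F) => g (j u)) h
    simp only [Module.End.mul_apply, hrj, LinearMap.neg_apply, Module.End.one_apply] at h1
    rw [← Module.End.mul_apply, hφsq, Module.End.one_apply] at h1
    refine hu (j.injective (Subtype.ext ?_))
    rw [map_zero, ZeroMemClass.coe_zero]
    exact (smul_eq_zero.1 (show (2 : F) • (j u : Fin n → F) = 0 by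
      rw [two_smul]; nth_rewrite 1 [h1]; simp)).resolve_left h2
  have hxrns : NS (x * r) := fun c hc => hφns c (LinearMap.ext fun u => j.injective (Subtype.ext (by
    have := congrArg (fun g : Module.End F (Fin n → F) => g (j u)) hc
    simp only [Module.End.mul_apply, hrj, hxj] at this
    simpa using this)))
  have hrns : NS r := fun c hc => hφns c (LinearMap.ext fun u => j.injective (Subtype.ext (by
    have := congrArg (fun g : Module.End F (Fin n → F) => g (j u)) hc
    simp only [hrj] at this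
    simpa using this)))
  obtain ⟨C, hC, hCa⟩ := hmk ((2 : F)⁻¹ • (1 - x + i • (r + x * r))) (fun u v => Φ (i • φ u, v))
    (by
      have hxr : (x * r) * (x * r) = 1 := by
        rw [mul_assoc, ← mul_assoc r x r, ← hrx, mul_assoc x r r, hr, mul_one, hx]
      have hprod : (1 + i • r) * (1 + i • (x * r)) = 1 - x + i • (r + x * r) := by
        refine LinearMap.ext fun v => ?_
        have e2 : r (r v) = v := by
          simpa using congrArg (fun g : Module.End F (Fin n → F) => g v) hr
        have e3 : r (x (r v)) = x v := by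
          rw [← Module.End.mul_apply, ← hrx, Module.End.mul_apply, e2]
        simp only [LinearMap.smul_apply, LinearMap.add_apply, LinearMap.sub_apply,
          Module.End.mul_apply, Module.End.one_apply, map_add, map_smul, e3, smul_add, smul_smul, hi]
        module
      rw [← hprod]
      exact hG.smul_mem' (inv_ne_zero h2)
        (hG.pair_mem r hrR (x * r) (hD.mul_mem _ hxR _ hrR) hr hxr hrns hxrns))
    (fun u v => by
      have e : x (r (a (j v : Fin n → F))) = -r (a (j v : Fin n → F)) := by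
        rw [← Module.End.mul_apply, hrx, Module.End.mul_apply, hxaj, map_neg]
      simp only [LinearMap.smul_apply, LinearMap.add_apply, LinearMap.sub_apply,
        Module.End.mul_apply, Module.End.one_apply, hΦ, map_add, map_smul, Submodule.coe_smul,
        hxj, hxaj, hrj, e]
      match_scalars <;> field_simp <;> ring)
    (fun u v u' v' => by
      rw [show herm q (Φ (_, _)) (Φ (_, _)) = _ from hherm _ _ _ _, herm_smul_left, herm_smul_right,
        parR_isom hR j hj φ hφR, hiq]
      linear_combination -(herm q u u') * hi)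
  have hL : ∀ e, herm q e e = 0 → Φ (e, 0) ∈ ctr hF M := by
    rcases hsrc with ⟨h5, hrec⟩ | hctr
    swap
    · intro e he
      rw [hΦ, map_zero, ZeroMemClass.coe_zero, map_zero, add_zero]
      exact hctr e he
    -- the subgroup acting on the first block only
    let K : Subgroup (UG m F q) :=
      { carrier := {g | ∃ k ∈ M, ∀ u v, k.1 (Φ (u, v)) = Φ (g.1 u, v)}
        one_mem' := ⟨1, one_mem _, fun u v => rfl⟩
        mul_mem' := by
          rintro g g' ⟨k, hk, e⟩ ⟨k', hk', e'⟩
          exact ⟨k * k', mul_mem hk hk', fun u v => by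
            rw [Subgroup.coe_mul, LinearEquiv.mul_apply, e', e, Subgroup.coe_mul,
              LinearEquiv.mul_apply]⟩
        inv_mem' := by
          rintro g ⟨k, hk, e⟩
          refine ⟨k⁻¹, inv_mem hk, fun u v => k.1.injective ?_⟩
          rw [e]
          simp }
    have hnorm : ∀ t ∈ TG m F q, ∀ g ∈ K, t * g * t⁻¹ ∈ K := by
      intro t ht g hg
      obtain ⟨k, hk, e⟩ := hg
      obtain ⟨f, hf, hfx, hft⟩ := (mem_parR j).1
        (mem_isoSub.1 (TG_le_of_all_ctr hF hrec ht))
      obtain ⟨w₀, hw₀⟩ : ∃ w₀ : Fin m → F, herm q w₀ w₀ ≠ 0 :=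
        ⟨Pi.single ⟨0, by omega⟩ 1, by rw [herm_single_one _ hF.q_ne_zero]; simp⟩
      have hfiso := simil_const hF (by omega) hU hf (u := (j w₀ : Fin n → F))
        (by rw [hj]; exact hw₀) (by rw [hft, hj, hj]; exact t.2 _ _)
      obtain ⟨f', hf', hff'⟩ := exists_mem_isoSub hF (hG.scal hD) hf hfiso
      refine ⟨f' * k * f'⁻¹, mul_mem (mul_mem hf' hk) (inv_mem hf'), fun u v => ?_⟩
      -- `f'⁻¹` preserves the second block
      have hfix : ∀ w, x (f'.1 w) = f'.1 (x w) := fun w => by
        rw [hff', hff']; exact congrArg (fun g : Module.End F (Fin n → F) => g w) hfx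
      obtain ⟨w, hw⟩ : ∃ w, (f'⁻¹ : UG n F q).1 (a (j v : Fin n → F)) = a (j w : Fin n → F) := by
        set z := (f'⁻¹ : UG n F q).1 (a (j v : Fin n → F)) with hz
        have hxz : x z = -z := f'.1.injective (by
          rw [← hfix, map_neg, hz]
          simp [hxaj])
        have hmem : a z ∈ Eig x := by rw [mem_eig, hax, hxz, map_neg, neg_neg]
        exact ⟨j.symm ⟨a z, hmem⟩, by rw [j.apply_symm_apply]; exact (haa z).symm⟩
      have hinv : (f'⁻¹ : UG n F q).1 (Φ (u, v)) = Φ ((t⁻¹ : UG m F q).1 u, w) := by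
        rw [hΦ, hΦ, map_add, hw]
        congr 1
        refine f'.1.injective ?_
        conv_rhs => rw [hff', hft]
        simp
      rw [Subgroup.coe_mul, Subgroup.coe_mul, LinearEquiv.mul_apply, LinearEquiv.mul_apply, hinv, e,
        hΦ, hΦ, map_add, ← hw]
      congr 1
      · rw [hff', hft]; rfl
      · simp
    obtain ⟨φ', hφ'⟩ : ∃ φ' : UG m F q, ∀ u, φ'.1 u = i • φ u := by
      have hφφ : ∀ u, φ (φ u) = u := fun u => by
        simpa using congrArg (fun g : Module.End F (Fin m → F) => g u) hφsq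
      refine ⟨⟨LinearEquiv.ofLinearMap (i • φ) (-(i • φ)) ?_ ?_, fun u v => ?_⟩, fun u => rfl⟩
      · exact LinearMap.ext fun u => by simp [smul_smul, hi, hφφ]
      · exact LinearMap.ext fun u => by simp [smul_smul, hi, hφφ]
      · show herm q (i • φ u) (i • φ v) = _
        rw [herm_smul_left, herm_smul_right, parR_isom hR j hj φ hφR, hiq]
        linear_combination -(herm q u v) * hi
    have hφK : φ' ∈ K := ⟨C, hC, fun u v => by rw [hCa, hφ']⟩
    have hK : ∀ e, herm q e e = 0 → e ∈ ctr hF K := fun e he =>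
      all_ctr_of_normal hF hq hq2 hm h5 hnorm hφK
        (fun ⟨c, hc⟩ => hφns.smul hD.i_ne c (LinearMap.ext fun u => by
          rw [LinearMap.smul_apply, ← hφ', hc]; rfl)) he
    intro e he
    refine ⟨by rw [show herm q (Φ (e, 0)) (Φ (e, 0)) = _ from hherm _ _ _ _, he,
      herm_zero_left, add_zero], fun c hc => ?_⟩
    have hc' : TrvCond q e c := ⟨he, hc.2⟩
    obtain ⟨k, hk, hkt⟩ := (hK e he).2 c hc'
    convert hk using 1
    refine Subtype.ext (LinearEquiv.ext fun z => ?_)
    obtain ⟨⟨u, v⟩, rfl⟩ := Φ.surjective z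
    rw [trv_apply hF hc, hkt, trv_apply hF hc', show herm q (Φ (u, v)) (Φ (e, 0)) = _ from hherm _ _ _ _,
      hF.herm_zero_right, add_zero, ← map_smul, ← map_add, Prod.smul_mk, Prod.mk_add_mk,
      smul_zero, add_zero]
  intro z hz
  refine all_ctr_of_blocks hF hm hq2 hi hiq h2 Φ hherm hW hWa hL (fun e he => ?_) hz
  have := ctr_map hF (hL e he) hA
  rwa [hAa] at this

theorem allTrv_of_res [Finite F] {R G : Set (Module.End F (Fin 4 → F))} (hq : q.Prime)
    (hq4 : q % 4 = 3) (h5 : 5 ≤ q) (hD : Data i R) (hG : PGrp i R G) (hR : Isom q R) (hU : Simil q G)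
    {x : Module.End F (Fin 4 → F)} (hxR : x ∈ R) (hx : x * x = 1) (hns : NS x)
    (j : (Fin 2 → F) ≃ₗ[F] Eig x)
    (hj : ∀ u v, herm q (j u : Fin 4 → F) (j v) = herm q u v)
    (hrec : AllTrv hF (parR_grp (by omega) hD hG hxR hx hns j)) : AllTrv hF (hG.scal hD) :=
  allTrv_of_source hF hq hq4 hD hG hR hU le_rfl rfl hxR hx hns j hj (Or.inl ⟨fun _ => h5, hrec⟩)

/-- Degree four in characteristic three: a controlled rotation gives all transvections. -/
theorem allTrv_of_controlled [Finite F] {R G : Set (Module.End F (Fin 4 → F))} (hq : q.Prime) (hq4 : q % 4 = 3) (h3 : (3 : F) = 0)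
    (hD : Data i R) (hG : PGrp i R G) (hR : Isom q R) (hU : Simil q G)
    {x b c : Module.End F (Fin 4 → F)} (hxR : x ∈ R) (hx : x * x = 1) (hns : NS x) (hbR : b ∈ R)
    (hcR : c ∈ R) (hb : b * b = 1) (hc : c * c = 1) (hbc : b * c = -(c * b))
    (hxb : x * b = b * x) (hxc : x * c = c * x) {e : Module.End F (Fin 4 → F)} (heG : e ∈ G)
    (he1 : ∀ v ∈ Eig x, e v = v)
    (he2 : ∀ v ∈ Eig (-x), e v = (2 : F)⁻¹ • ((1 + i • c) * (1 - i • b)) v) : AllTrv hF (hG.scal hD) := by
  have h2 := hD.two_ne
  have hinv2 : (2 : F)⁻¹ = -1 := by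
    refine inv_eq_of_mul_eq_one_right ?_
    linear_combination -h3
  have hxv : ∀ v, x (x v) = v := fun v => by
    simpa using congrArg (fun g : Module.End F (Fin 4 → F) => g v) hx
  have hbv : ∀ v, b (b v) = v := fun v => by
    simpa using congrArg (fun g : Module.End F (Fin 4 → F) => g v) hb
  have hcv : ∀ v, c (c v) = v := fun v => by
    simpa using congrArg (fun g : Module.End F (Fin 4 → F) => g v) hc
  have hbcv : ∀ v, b (c v) = -c (b v) := fun v => by
    simpa using congrArg (fun g : Module.End F (Fin 4 → F) => g v) hbc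
  have hxbv : ∀ v, x (b v) = b (x v) := fun v => by
    simpa using congrArg (fun g : Module.End F (Fin 4 → F) => g v) hxb
  have hxcv : ∀ v, x (c v) = c (x v) := fun v => by
    simpa using congrArg (fun g : Module.End F (Fin 4 → F) => g v) hxc
  -- coordinates on both eigenspaces
  obtain ⟨a, haR, ha, hxa⟩ := hD.exists_anticomm hxR hns
  have hmR := hD.neg_mem hxR
  have hmns : NS (-x) := fun t ht => hns (-t) (LinearMap.ext fun v => by
    have := congrArg (fun g : Module.End F (Fin 4 → F) => -g v) ht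
    simpa using this)
  have hm2 : (-x) * (-x) = 1 := LinearMap.ext fun v => by simp [hxv]
  have hma : (-x) * a = -(a * -x) := LinearMap.ext fun v => by
    simpa using congrArg (fun g : Module.End F (Fin 4 → F) => -g v) hxa
  obtain ⟨m₀, j₀, hm₀, hj₀⟩ := exists_param hF hD hR hxR hx haR ha hxa
  obtain rfl : m₀ = 2 := by omega
  obtain ⟨m, j, hm, hj⟩ := exists_param hF hD hR hmR hm2 haR ha hma
  obtain rfl : m = 2 := by omega
  have hfr : finrank F (Eig (-x)) = 2 := by rw [← j.finrank_eq, Module.finrank_fin_fun]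
  have hneg : ∀ v, v ∈ Eig (-x) ↔ x v = -v := fun v => by
    rw [mem_eig, LinearMap.neg_apply, neg_eq_iff_eq_neg]
  have horth : ∀ u v, x u = u → x v = -v → herm q u v = 0 := fun u v hu hv => by
    have h := hR x hxR u v
    rw [hu, hv, hF.herm_neg_right] at h
    exact (mul_eq_zero.1 (show (2 : F) * herm q u v = 0 by linear_combination -h)).resolve_left h2
  have hsplit : ∀ v, ∃ p u, x p = p ∧ x u = -u ∧ v = p + u := fun v =>
    ⟨(2 : F)⁻¹ • (v + x v), (2 : F)⁻¹ • (v - x v), by rw [map_smul, map_add, hxv, add_comm],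
      by rw [map_smul, map_sub, hxv, ← smul_neg, neg_sub], by
        rw [← smul_add, show v + x v + (v - x v) = (2 : F) • v by module, inv_smul_smul₀ h2]⟩
  -- the isometry `e' = x e`
  set u₀ : Fin 2 → F := Pi.single 0 1 with hu₀
  have hu₀n : herm q u₀ u₀ = 1 := by
    rw [hu₀, herm_single_one _ hF.q_ne_zero]; simp
  have hiso := simil_const hF (by norm_num) hU heG (u := (j₀ u₀ : Fin 4 → F))
    (by rw [hj₀, hu₀n]; exact one_ne_zero) (by rw [he1 _ (j₀ u₀).2])
  obtain ⟨k, hk, hke⟩ := exists_mem_isoSub hF (hG.scal hD) (hG.mul_mem _ (hG.sub hxR) _ heG)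
    (fun u v => by rw [Module.End.mul_apply, Module.End.mul_apply, hR x hxR, hiso])
  set A := i • c - i • b + c * b with hA
  have hkp : ∀ v, x v = v → k.1 v = v := fun v hv => by
    rw [hke, Module.End.mul_apply, he1 v (mem_eig.2 hv), hv]
  have hkm : ∀ v, x v = -v → k.1 v = v + A v := fun v hv => by
    rw [hke, Module.End.mul_apply, he2 v ((hneg v).2 hv), hinv2]
    simp only [hA, LinearMap.add_apply, LinearMap.sub_apply, LinearMap.smul_apply,
      Module.End.mul_apply, Module.End.one_apply, map_add, map_sub, map_smul, map_neg, hxbv,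
      hxcv, hv, smul_sub, smul_add, smul_neg, neg_smul, one_smul, smul_smul, hD.sq_i]
    match_scalars <;> first | ring1 | linear_combination -hD.sq_i | linear_combination hD.sq_i
  have hAinv : ∀ v, x v = -v → x (A v) = -A v := fun v hv => by
    simp only [hA, LinearMap.add_apply, LinearMap.sub_apply, LinearMap.smul_apply,
      Module.End.mul_apply, map_add, map_sub, map_smul, hxbv, hxcv, hv, map_neg]
    module
  have hAA : ∀ v, A (A v) = 0 := fun v => by
    have := congrArg (fun g : Module.End F (Fin 4 → F) => g v)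
      (mul_self_sum_eq_neg_three hD hb hc hbc)
    rw [← hA, h3, neg_zero, zero_smul] at this
    simpa only [Module.End.mul_apply, LinearMap.zero_apply] using this
  have hbA : ∀ v, b (A v) + A (b v) = (-2 * i) • v := fun v => by
    simp only [hA, LinearMap.add_apply, LinearMap.sub_apply, LinearMap.smul_apply,
      Module.End.mul_apply, map_add, map_sub, map_smul, hbv, hbcv, map_neg]
    module
  -- the centre
  obtain ⟨w₀, hw₀, hw₀A⟩ : ∃ w₀, x w₀ = -w₀ ∧ A w₀ ≠ 0 := by
    by_contra hcon
    push Not at hcon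
    have hv : x (j u₀ : Fin 4 → F) = -(j u₀ : Fin 4 → F) := (hneg _).1 (j u₀).2
    have h := hbA (j u₀ : Fin 4 → F)
    rw [hcon _ hv, hcon _ (by rw [hxbv, hv, map_neg]), map_zero, add_zero, eq_comm] at h
    have := (smul_eq_zero.1 h).resolve_left (mul_ne_zero (neg_ne_zero.2 h2) hD.i_ne)
    have h' := hj u₀ u₀
    rw [this, hu₀n, herm_zero_left] at h'
    exact zero_ne_one h'
  set w := A w₀ with hwdef
  have hxw : x w = -w := hAinv w₀ hw₀
  have hAw : A w = 0 := hAA w₀
  have hI : ∀ u v, x u = -u → x v = -v →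
      herm q (A u) v + herm q u (A v) + herm q (A u) (A v) = 0 := by
    intro u v hu hv
    have h := UG_app k u v
    rw [hkm u hu, hkm v hv, herm_add_left, hF.herm_add_right, hF.herm_add_right] at h
    linear_combination h
  have hww : herm q w w = 0 := by
    have := hI w₀ w hw₀ hxw
    rwa [hAw, hF.herm_zero_right, hF.herm_zero_right, add_zero, add_zero, ← hwdef] at this
  have hwne : w ≠ 0 := hw₀A
  have hindep : LinearIndependent F
      ![(⟨w, (hneg w).2 hxw⟩ : Eig (-x)), ⟨w₀, (hneg w₀).2 hw₀⟩] := by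
    refine LinearIndependent.pair_iff.2 fun s t hst => ?_
    have h1 : s • w + t • w₀ = 0 := by simpa using congrArg Subtype.val hst
    have h4 := congrArg A h1
    rw [map_add, map_smul, map_smul, hAw, smul_zero, zero_add, map_zero, ← hwdef] at h4
    have ht := (smul_eq_zero.1 h4).resolve_right hwne
    rw [ht, zero_smul, add_zero] at h1
    exact ⟨(smul_eq_zero.1 h1).resolve_right hwne, ht⟩
  have hspan : ∀ v, x v = -v → ∃ s t : F, v = s • w + t • w₀ := by
    intro v hv
    let B := basisOfLinearIndependentOfCardEqFinrank hindep (by rw [Fintype.card_fin, hfr])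
    have h := B.sum_repr ⟨v, (hneg v).2 hv⟩
    rw [Fin.sum_univ_two, coe_basisOfLinearIndependentOfCardEqFinrank] at h
    exact ⟨_, _, by simpa using (congrArg Subtype.val h).symm⟩
  set h₀ := herm q w₀ w with hh₀
  have hh₀ne : h₀ ≠ 0 := by
    intro h
    refine hwne (hF.eq_zero_of_herm w fun v => ?_)
    obtain ⟨p, u, hp, hu, rfl⟩ := hsplit v
    obtain ⟨s, t, rfl⟩ := hspan u hu
    rw [hF.herm_add_right, hF.herm_add_right, herm_smul_right, herm_smul_right, hww,
      ← hF.herm_symm w₀ w, ← hh₀, h, zero_pow hF.q_ne_zero, ← hF.herm_symm p w,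
      horth p w hp hxw, zero_pow hF.q_ne_zero]
    ring
  have hskew : (h₀⁻¹) ^ q = -h₀⁻¹ := by
    have := hI w₀ w₀ hw₀ hw₀
    rw [← hwdef, hww, add_zero, ← hF.herm_symm w₀ w, ← hh₀] at this
    rw [inv_pow, ← inv_neg]
    congr 1
    linear_combination this
  have hwctr : w ∈ ctr hF (isoSub q (hG.scal hD)) := by
    have hcond : TrvCond q w h₀⁻¹ := ⟨hww, hskew⟩
    refine mem_ctr_of_one hF hq (h := hcond) (inv_ne_zero hh₀ne) ?_
    convert hk using 1
    refine Subtype.ext (LinearEquiv.ext fun v => ?_)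
    obtain ⟨p, u, hp, hu, rfl⟩ := hsplit v
    obtain ⟨s, t, rfl⟩ := hspan u hu
    rw [trv_apply hF hcond, map_add k.1, hkp p hp, hkm _ hu, herm_add_left, horth p w hp hxw,
      herm_add_left, herm_smul_left, herm_smul_left, hww, ← hh₀, map_add, map_smul A, map_smul A,
      hAw, ← hwdef]
    match_scalars <;> field_simp <;> ring
  -- a second centre
  have hmap : ∀ r, r ∈ R → r w ∈ ctr hF (isoSub q (hG.scal hD)) := fun r hr => by
    obtain ⟨k', hk', hkr⟩ := exists_mem_isoSub hF (hG.scal hD) (hG.sub hr) (hR r hr)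
    have := ctr_map hF hwctr hk'
    rwa [hkr] at this
  obtain ⟨w', hw', hxw', hne⟩ :
      ∃ w', w' ∈ ctr hF (isoSub q (hG.scal hD)) ∧ x w' = -w' ∧ herm q w w' ≠ 0 := by
    by_contra hcon
    push Not at hcon
    have hlin : ∀ r : Module.End F (Fin 4 → F), x (r w) = -r w → r w ∈ ctr hF (isoSub q (hG.scal hD)) →
        ∃ s : F, r w = s • w := by
      intro r hr hrc
      obtain ⟨s, t, hst⟩ := hspan (r w) hr
      have h := hcon _ hrc hr
      rw [hst, hF.herm_add_right, herm_smul_right, herm_smul_right, hww, mul_zero, zero_add,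
        ← hF.herm_symm w₀ w, ← hh₀, ← mul_pow] at h
      have := (mul_eq_zero.1 ((pow_eq_zero_iff hF.q_ne_zero).1 h)).resolve_right hh₀ne
      exact ⟨s, by rw [hst, this, zero_smul, add_zero]⟩
    obtain ⟨s, hs⟩ := hlin b (by rw [hxbv, hxw, map_neg]) (hmap b hbR)
    obtain ⟨t, ht⟩ := hlin c (by rw [hxcv, hxw, map_neg]) (hmap c hcR)
    have h := hbcv w
    rw [ht, hs, map_smul, map_smul, hs, ht, smul_smul, smul_smul, mul_comm t s,
      eq_neg_iff_add_eq_zero, ← two_smul F, smul_smul] at h
    rcases mul_eq_zero.1 ((smul_eq_zero.1 h).resolve_right hwne) with h' | h'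
    · exact h2 h'
    rcases mul_eq_zero.1 h' with rfl | rfl
    · rw [zero_smul] at hs; exact hwne (by rw [← hbv w, hs, map_zero])
    · rw [zero_smul] at ht; exact hwne (by rw [← hcv w, ht, map_zero])
  refine allTrv_of_source hF hq hq4 hD hG hR hU le_rfl rfl hmR hm2 hmns j hj (Or.inr ?_)
  intro v hv
  have hv' : x (j v : Fin 4 → F) = -(j v : Fin 4 → F) := (hneg _).1 (j v).2
  obtain ⟨s, t, hst⟩ := hspan _ hv'
  obtain ⟨s', t', hst'⟩ := hspan w' hxw'
  have ht' : t' ≠ 0 := by
    rintro rfl
    rw [hst', zero_smul, add_zero, herm_smul_right, hww, mul_zero] at hne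
    exact hne rfl
  have he : (j v : Fin 4 → F) = (s - t / t' * s') • w + (t / t') • w' := by
    rw [hst, hst']
    match_scalars <;> field_simp <;> ring
  rw [he]
  refine ctr_line hF hwctr hw' hne ?_
  rw [← he, hj, hv]

end Cfsg.Agent.SU4.Six
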