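import Cfsg.Agent.MaxSub.CSixU.Block
import Cfsg.Agent.MaxSub.CSix.Key

/-!
Symplectic-type groups in degree four with quarter turns available only in pairs.
-/

set_option autoImplicit false
set_option linter.unusedSectionVars false

namespace Cfsg.Agent.SU4.Six

open Cfsg.Agent.MaxSub CSix Module

variable {F : Type*} [Field F] {V : Type*} [AddCommGroup V] [Module F V]

/-- The scalars of a symplectic-type group. -/
def Scal (i : F) : Set (Module.End F V) :=
  {f | f = 1 ∨ f = -1 ∨ f = i • 1 ∨ f = -(i • 1)}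

/-- A group containing `R`, the scalars and the products of two quarter turns. -/
structure PGrp (i : F) (R G : Set (Module.End F V)) : Prop where
  inv_mem : ∀ g ∈ G, ∃ g' ∈ G, g * g' = 1 ∧ g' * g = 1
  mul_mem : ∀ a ∈ G, ∀ b ∈ G, a * b ∈ G
  smul_mem : ∀ c : F, c ≠ 0 → c • (1 : Module.End F V) ∈ G
  sub : R ⊆ G
  pair_mem : ∀ y ∈ R, ∀ z ∈ R, y * y = 1 → z * z = 1 → NS y → NS z →
    (1 + i • y) * (1 + i • z) ∈ G

namespace PGrp

variable {i : F} {R G : Set (Module.End F V)}

lemma smul_mem' (hG : PGrp i R G) {c : F} (hc : c ≠ 0) {g : Module.End F V} (hg : g ∈ G) :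
    c • g ∈ G := by
  simpa using hG.mul_mem _ (hG.smul_mem c hc) _ hg

lemma isUnit (hG : PGrp i R G) {g : Module.End F V} (hg : g ∈ G) : IsUnit g := by
  obtain ⟨g', -, h1, h2⟩ := hG.inv_mem g hg
  exact ⟨⟨g, g', h1, h2⟩, rfl⟩

/-- The group over the scalars alone. -/
theorem scal (hG : PGrp i R G) (hD : Data i R) : Grp i (Scal i) G := by
  have h1 : (1 : Module.End F V) ∈ G := hG.sub hD.one_mem
  refine ⟨hG.inv_mem, hG.mul_mem, hG.smul_mem, ?_, ?_⟩
  · rintro f (rfl | rfl | rfl | rfl)
    · exact h1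
    · exact hG.sub hD.neg_one_mem
    · exact hG.sub hD.i_mem
    · exact hG.sub (hD.neg_mem hD.i_mem)
  · intro f hf hff
    have hne : ∀ c : F, c * c = -1 → (1 + c : F) ≠ 0 := fun c hc h0 =>
      hD.two_ne (by linear_combination (1 - c) * h0 + hc)
    rcases subsingleton_or_nontrivial V with hV | hV
    · convert h1 using 1
      exact LinearMap.ext fun v => Subsingleton.elim _ _
    have hi : ∀ c : F, (c • (1 : Module.End F V)) * (c • 1) = 1 → c * c = 1 := fun c h => by
      rw [smul_mul_smul_comm, mul_one] at h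
      exact smul_one_inj (V := V) (by rw [h, one_smul])
    rcases hf with rfl | rfl | rfl | rfl
    · have : (1 : Module.End F V) + i • 1 = (1 + i) • 1 := by rw [add_smul, one_smul]
      rw [this]
      exact hG.smul_mem _ (hne i hD.sq_i)
    · have : (1 : Module.End F V) + i • (-1) = (1 + -i) • 1 := by
        rw [smul_neg, add_smul, one_smul, neg_smul]
      rw [this]
      exact hG.smul_mem _ (hne (-i) (by rw [neg_mul_neg, hD.sq_i]))
    · exact absurd (hi i hff) (fun h => hD.two_ne (by linear_combination -h + hD.sq_i))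
    · rw [neg_mul_neg] at hff
      exact absurd (hi i hff) (fun h => hD.two_ne (by linear_combination -h + hD.sq_i))

/-- The quarter turns of the restriction to an eigenspace. -/
theorem res [Nontrivial V] [FiniteDimensional F V] (hG : PGrp i R G) (hD : Data i R)
    {x : Module.End F V} (hxR : x ∈ R) (hx : x * x = 1) (hns : NS x) :
    Grp i (Res x R) (Res x G) := by
  have := nontrivial_eig hD hxR hx hns
  refine ⟨?_, ?_, ?_, ?_, ?_⟩
  · rintro φ ⟨f, hf, hfc, hφ⟩
    obtain ⟨f', hf', h1, h2⟩ := hG.inv_mem f hf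
    have hfc' : x * f' = f' * x := by
      calc x * f' = f' * f * x * f' := by rw [h2, one_mul]
        _ = f' * x * (f * f') := by rw [mul_assoc f', ← hfc]; noncomm_ring
        _ = f' * x := by rw [h1, mul_one]
    refine ⟨resEl x f' hfc', resEl_mem hf' hfc', ?_, ?_⟩ <;>
      refine LinearMap.ext fun w => Subtype.ext ?_
    · simpa [hφ] using congrArg (fun k : Module.End F V => k w) h1
    · simpa [hφ] using congrArg (fun k : Module.End F V => k w) h2
  · rintro φ ⟨f, hf, hfc, hφ⟩ ψ ⟨g, hg, hgc, hψ⟩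
    exact ⟨f * g, hG.mul_mem f hf g hg, by rw [← mul_assoc, hfc, mul_assoc, hgc, mul_assoc],
      fun w => by simp [hφ, hψ]⟩
  · exact fun c hc => ⟨c • 1, hG.smul_mem c hc, by simp, fun w => by simp⟩
  · rintro φ ⟨f, hf, hfc, hφ⟩
    exact ⟨f, hG.sub hf, hfc, hφ⟩
  · rintro φ ⟨f, hf, hfc, hφ⟩ hsq
    rcases hD.sq_sign f hf with h | h
    · by_cases hfns : NS f
      · have h1i : (1 + i : F) ≠ 0 := fun h0 =>
          hD.two_ne (by linear_combination (1 - i) * h0 + hD.sq_i)
        refine ⟨(1 + i)⁻¹ • ((1 + i • f) * (1 + i • x)),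
          hG.smul_mem' (inv_ne_zero h1i) (hG.pair_mem f hf x hxR h hx hfns hns), ?_, fun w => ?_⟩
        · have e1 : x * (1 + i • f) = (1 + i • f) * x := by
            rw [mul_add, add_mul, mul_smul_comm, smul_mul_assoc, hfc, mul_one, one_mul]
          have e2 : x * (1 + i • x) = (1 + i • x) * x := by
            rw [mul_add, add_mul, mul_smul_comm, smul_mul_assoc, mul_one, one_mul]
          rw [mul_smul_comm, smul_mul_assoc, ← mul_assoc, e1, mul_assoc, e2, mul_assoc]
        · have hw : (1 + i • x) (w : V) = (1 + i) • (w : V) := by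
            simp [mem_eig.1 w.2, add_smul]
          rw [LinearMap.smul_apply, Module.End.mul_apply, hw, map_smul, smul_smul,
            inv_mul_cancel₀ h1i, one_smul]
          simp [hφ]
      · simp only [NS, not_forall, not_not] at hfns
        obtain ⟨c, rfl⟩ := hfns
        have hcc : c * c = 1 := smul_one_inj (V := V) (by
          rw [smul_mul_smul_comm, mul_one] at h; rw [h, one_smul])
        refine ⟨(1 + i * c) • 1, hG.smul_mem _ (fun h0 => hD.two_ne ?_), by simp, fun w => ?_⟩
        · linear_combination (1 - i * c) * h0 + c * c * hD.sq_i - hcc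
        · simp [hφ, add_smul, smul_smul]
    · exfalso
      obtain ⟨w, hw⟩ := exists_ne (0 : Eig x)
      have h' := congrArg (fun k : Module.End F V => k w) h
      have h'' := congrArg (fun k : Module.End F (Eig x) => ((k w : Eig x) : V)) hsq
      simp [hφ] at h' h''
      rw [h''] at h'
      have h3 : (2 : F) • (w : V) = 0 := by rw [two_smul]; nth_rewrite 1 [h']; simp
      exact hw (Subtype.ext ((smul_eq_zero.1 h3).resolve_left hD.two_ne))

end PGrp

open CSixU Cfsg.Agent.Classical.U in
/-- The restriction of a `PGrp`, in coordinates. -/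
theorem parR_grp {n m : ℕ} [Finite F] (hn : 1 ≤ n) {i : F}
    {R G : Set (Module.End F (Fin n → F))} (hD : Data i R) (hG : PGrp i R G)
    {x : Module.End F (Fin n → F)} (hxR : x ∈ R) (hx : x * x = 1) (hns : NS x)
    (j : (Fin m → F) ≃ₗ[F] Eig x) : Grp i (ParR j R) (ParR j G) :=
  haveI : Nonempty (Fin n) := ⟨⟨0, hn⟩⟩
  grp_preimage (paramEquiv j) (hG.res hD hxR hx hns)

end Cfsg.Agent.SU4.Six
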