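import Cfsg.Agent.SU4.Six.Plane

/-!
In degree four, over a prime field in which two is a non-square: a conjugate of an involution of `R`
commuting with a non-scalar involution of `R` lies in `R`, unless there is a controlled rotation.
-/

set_option autoImplicit false
set_option linter.unusedSectionVars false

namespace Cfsg.Agent.SU4.Six

open Cfsg.Agent.MaxSub CSix Module
open Cfsg.Agent.Classical.U

variable {F : Type*} [Field F] {q : ℕ} {i : F}

/-- A conjugate involution commuting with a non-scalar involution of `R` lies in `R`. -/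
def Fix0 {V : Type*} [AddCommGroup V] [Module F V] (R G : Set (Module.End F V)) : Prop :=
  ∀ y, Cls R G y → ∀ b ∈ R, b * b = 1 → NS b → y * b = b * y → y ∈ R

section Group

variable {V : Type*} [AddCommGroup V] [Module F V] {R G : Set (Module.End F V)}

lemma cls_mem_G (hG : PGrp i R G) {y : Module.End F V} (h : Cls R G y) : y ∈ G := by
  obtain ⟨g, hg, g', hg', -, -, x, hxR, -, -, rfl⟩ := h
  exact hG.mul_mem _ (hG.mul_mem _ hg _ (hG.sub hxR)) _ hg'

lemma cls_conj (hG : PGrp i R G) {y : Module.End F V} (h : Cls R G y) {k k' : Module.End F V}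
    (hk : k ∈ G) (hk' : k' ∈ G) (h1 : k * k' = 1) (h2 : k' * k = 1) : Cls R G (k * y * k') := by
  obtain ⟨g, hg, g', hg', e1, e2, x, hxR, hx, hns, rfl⟩ := h
  exact ⟨k * g, hG.mul_mem _ hk _ hg, g' * k', hG.mul_mem _ hg' _ hk', inv_mul_mul e1 h1,
    inv_mul_mul h2 e2, x, hxR, hx, hns, by simp only [mul_assoc]⟩

lemma cls_of_mem (hD : Data i R) (hG : PGrp i R G) {x : Module.End F V} (hxR : x ∈ R)
    (hx : x * x = 1) (hns : NS x) : Cls R G x :=
  ⟨1, hG.sub hD.one_mem, 1, hG.sub hD.one_mem, one_mul 1, one_mul 1, x, hxR, hx, hns, by simp⟩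

lemma neg_eig {x : Module.End F V} {v : V} (hv : v ∈ Eig (-x)) : x v = -v := by
  simpa [neg_eq_iff_eq_neg] using mem_eig.1 hv

lemma eig_neg_of {x f : Module.End F V} (h : x * f = f * x) {v : V} (hv : v ∈ Eig (-x)) :
    f v ∈ Eig (-x) :=
  comm_mem_eig (by rw [neg_mul, h, mul_neg]) hv

variable [Nontrivial V] [FiniteDimensional F V] [Finite (Module.End F V)]

lemma cls_trace (hD : Data i R) {y : Module.End F V} (h : Cls R G y) :
    LinearMap.trace F V y = 0 := by
  obtain ⟨g, -, g', -, -, h2, x, hxR, -, hns, rfl⟩ := h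
  rw [LinearMap.trace_mul_comm, ← mul_assoc, h2, one_mul]
  exact trace_eq_zero hD hxR hns

lemma eq_of_sides (h2 : (2 : F) ≠ 0) {b y A B : Module.End F V} (hb : b * b = 1)
    (hA : b * A = A * b) (hB : b * B = B * b) (h1 : ∀ v ∈ Eig b, y v = A v)
    (h1' : ∀ v ∈ Eig (-b), y v = B v) :
    y = (2 : F)⁻¹ • (A + b * A) + (2 : F)⁻¹ • (B - b * B) := by
  refine eq_of_eig_eq h2 hb (fun v hv => ?_) fun v hv => ?_
  · rw [h1 v hv]
    simp only [LinearMap.add_apply, LinearMap.smul_apply, LinearMap.sub_apply, hA, hB,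
      Module.End.mul_apply, mem_eig.1 hv, sub_self, smul_zero, add_zero]
    rw [← two_smul F (A v), smul_smul, inv_mul_cancel₀ h2, one_smul]
  · rw [h1' v hv]
    simp only [LinearMap.add_apply, LinearMap.smul_apply, LinearMap.sub_apply, hA, hB,
      Module.End.mul_apply, neg_eig hv, map_neg, add_neg_cancel, smul_zero, zero_add, sub_neg_eq_add]
    rw [← two_smul F (B v), smul_smul, inv_mul_cancel₀ h2, one_smul]

/-- A square root of the negative of a non-scalar involution of the plane. -/
lemma exists_root (hD : Data i R) (hV : finrank F V = 2) {J K : Module.End F V} (hJR : J ∈ R)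
    (hJ : J * J = 1) (hJns : NS J) (hK : K * K = -J) :
    ∃ α s : F, (s = 1 ∨ s = -1) ∧ α ^ 4 * 4 = -1 ∧ K = α • (1 + i • (s • J)) := by
  have hJK : J * K = K * J := by
    have hJ' : J = -(K * K) := by rw [hK, neg_neg]
    rw [hJ', neg_mul, mul_neg, mul_assoc]
  obtain ⟨u, v, huv⟩ := exists_of_commute hD hV hJR hJ hJns hJK
  have hlin : (u * u + v * v) • (1 : Module.End F V) + (2 * (u * v) + 1) • J = 0 := by
    rw [← sub_eq_zero.2 (huv ▸ hK)]
    simp only [mul_add, add_mul, mul_one, one_mul, smul_mul_assoc, mul_smul_comm, hJ, smul_smul]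
    module
  have h2uv : 2 * (u * v) + 1 = 0 := by
    by_contra hne
    refine hJns (-((2 * (u * v) + 1)⁻¹ * (u * u + v * v))) ?_
    have h2 := eq_neg_of_add_eq_zero_right hlin
    rw [← inv_smul_smul₀ hne J, h2]
    module
  rw [h2uv, zero_smul, add_zero] at hlin
  have hsum : u * u + v * v = 0 := smul_one_inj (V := V) (by rw [hlin, zero_smul])
  obtain ⟨s, hs, hv⟩ : ∃ s : F, (s = 1 ∨ s = -1) ∧ v = s * i * u := by
    rcases mul_eq_zero.1 (show (v - i * u) * (v + i * u) = 0 by
      linear_combination hsum - u * u * hD.sq_i) with h | h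
    · exact ⟨1, Or.inl rfl, by linear_combination h⟩
    · exact ⟨-1, Or.inr rfl, by linear_combination h⟩
  have hss : s * s = 1 := by rcases hs with rfl | rfl <;> ring
  refine ⟨u, s, hs, ?_, ?_⟩
  · subst hv
    linear_combination (1 - 2 * (u * (s * i * u))) * h2uv +
      4 * u ^ 4 * (i * i * hss + hD.sq_i)
  · rw [huv, hv]
    module

lemma finite_end_eig (h2 : (2 : F) ≠ 0) {z : Module.End F V} (hz : z * z = 1) :
    Finite (Module.End F (Eig z)) :=
  Finite.of_injective (fun f : Module.End F (Eig z) =>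
    ((Eig z).subtype.comp (f.comp (eigProj h2 z hz)) : Module.End F V)) fun f g h =>
    LinearMap.ext fun w => Subtype.ext (by
      have := congrArg (fun k : Module.End F V => k w) h
      simpa [eigProj_self] using this)

/-- A conjugate involution commuting with a non-scalar involution of `R` is, on the fixed space of
the latter, a sign or an element of `R`. -/
def Side (R G : Set (Module.End F V)) : Prop :=
  ∀ y, Cls R G y → ∀ z ∈ R, z * z = 1 → NS z → z * y = y * z →
    (∃ σ : F, (σ = 1 ∨ σ = -1) ∧ ∀ v ∈ Eig z, y v = σ • v) ∨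
      ∃ c ∈ R, c * c = 1 ∧ z * c = c * z ∧ (∀ v ∈ Eig z, y v = c v) ∧
        ∀ σ : F, ¬ ∀ v ∈ Eig z, c v = σ • v

/-- The two cases for an involution of trace zero commuting with a non-scalar involution of `R`. -/
lemma cases_of_commute (hD : Data i R) (hfr4 : finrank F V = 4) (hside : Side R G)
    {y : Module.End F V} (hyC : Cls R G y)
    {b : Module.End F V} (hbR : b ∈ R) (hb : b * b = 1) (hbns : NS b)
    (hyb : y * b = b * y) :
    y ∈ R ∨ ∃ c d, c ∈ R ∧ d ∈ R ∧ c * c = 1 ∧ d * d = 1 ∧ b * c = c * b ∧ b * d = d * b ∧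
      c * d = -(d * c) ∧ NS c ∧ NS (b * c) ∧ (∀ v ∈ Eig b, y v = c v) ∧
        ∀ v ∈ Eig (-b), y v = d v := by
  have hmR := hD.neg_mem hbR
  have hm2 : -b * -b = 1 := by rw [neg_mul_neg, hb]
  have hmns : NS (-b) := by simpa using hbns.smul (neg_ne_zero.2 one_ne_zero)
  have h0 : ∀ f ∈ R, NS f → LinearMap.trace F V f = 0 := fun f hf hns =>
    trace_eq_zero hD hf hns
  have h4 : LinearMap.trace F V (1 : Module.End F V) = 4 := by
    rw [LinearMap.trace_one, hfr4]; norm_num
  have htwo : (2 : F)⁻¹ * 4 ≠ 0 := mul_ne_zero (inv_ne_zero hD.two_ne)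
    (by rw [show (4 : F) = 2 * 2 by norm_num]; exact mul_ne_zero hD.two_ne hD.two_ne)
  have hc1 : ∀ σ : F, b * (σ • 1) = (σ • 1) * b := fun σ => by simp
  -- elements of `R` non-scalar on one eigenspace
  have hNS : ∀ f ∈ R, ∀ z : Module.End F V, (z = b ∨ z = -b) →
      (∀ σ : F, ¬ ∀ v ∈ Eig z, f v = σ • v) → NS f ∧ NS (b * f) := by
    intro f _ z hz hf
    refine ⟨fun σ h => hf σ fun v _ => by rw [h]; simp, fun σ h => ?_⟩
    have e : f = σ • b := by rw [← one_mul f, ← hb, mul_assoc, h, mul_smul_comm, mul_one]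
    rcases hz with rfl | rfl
    · exact hf σ fun v hv => by rw [e, LinearMap.smul_apply, mem_eig.1 hv]
    · exact hf (-σ) fun v hv => by rw [e, LinearMap.smul_apply, neg_eig hv, smul_neg, neg_smul]
  have htr := cls_trace hD hyC
  rcases hside y hyC b hbR hb hbns hyb.symm with
    ⟨σ, hσ, h1⟩ | ⟨c, hcR, hc, hbc, h1, hcns⟩ <;>
  rcases hside y hyC (-b) hmR hm2 hmns
      (by rw [neg_mul, mul_neg, hyb]) with
    ⟨τ, hτ, h1'⟩ | ⟨d, hdR, hd, hbd', h1', hdns⟩
  · left
    rw [eq_of_sides hD.two_ne hb (hc1 σ) (hc1 τ) (y := y) (fun v hv => by rw [h1 v hv]; simp)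
      (fun v hv => by rw [h1' v hv]; simp)]
    have hh := inv_mul_cancel₀ hD.two_ne
    rcases hσ with rfl | rfl <;> rcases hτ with rfl | rfl
    · convert hD.one_mem using 1
      simp only [mul_smul_comm, mul_one]
      match_scalars <;> first | linear_combination hh | ring
    · convert hbR using 1
      simp only [mul_smul_comm, mul_one]
      match_scalars <;> first | linear_combination hh | ring
    · convert hmR using 1
      simp only [mul_smul_comm, mul_one]
      match_scalars <;> first | linear_combination hh | linear_combination -hh | ring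
    · convert hD.neg_one_mem using 1
      simp only [mul_smul_comm, mul_one]
      match_scalars <;> first | linear_combination hh | linear_combination -hh | ring
  · exfalso
    have hbd : b * d = d * b := by simpa using hbd'
    obtain ⟨n1, n2⟩ := hNS d hdR (-b) (Or.inr rfl) hdns
    rw [eq_of_sides hD.two_ne hb (hc1 σ) hbd (y := y) (fun v hv => by rw [h1 v hv]; simp) h1'] at htr
    simp only [map_add, map_sub, map_smul, mul_smul_comm, mul_one, h4, h0 b hbR hbns, h0 d hdR n1,
      h0 _ (hD.mul_mem _ hbR _ hdR) n2, smul_eq_mul, mul_zero, sub_zero, add_zero] at htr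
    have : σ * ((2 : F)⁻¹ * 4) = 0 := by linear_combination htr
    rcases mul_eq_zero.1 this with h | h
    · rcases hσ with rfl | rfl <;> simp at h
    · exact htwo h
  · exfalso
    obtain ⟨n1, n2⟩ := hNS c hcR b (Or.inl rfl) hcns
    rw [eq_of_sides hD.two_ne hb hbc (hc1 τ) (y := y) h1 (fun v hv => by rw [h1' v hv]; simp)] at htr
    simp only [map_add, map_sub, map_smul, mul_smul_comm, mul_one, h4, h0 b hbR hbns, h0 c hcR n1,
      h0 _ (hD.mul_mem _ hbR _ hcR) n2, smul_eq_mul, mul_zero, sub_zero, add_zero, zero_add] at htr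
    have : τ * ((2 : F)⁻¹ * 4) = 0 := by linear_combination htr
    rcases mul_eq_zero.1 this with h | h
    · rcases hτ with rfl | rfl <;> simp at h
    · exact htwo h
  · have hbd : b * d = d * b := by simpa using hbd'
    obtain ⟨n1, n2⟩ := hNS c hcR b (Or.inl rfl) hcns
    rcases hD.comm_sign c hcR d hdR with hcd | hcd
    swap
    · exact Or.inr ⟨c, d, hcR, hdR, hc, hd, hbc, hbd, hcd, n1, n2, h1, h1'⟩
    left
    -- `c` is not scalar on the second eigenspace either
    have hcns' : ∀ τ : F, ¬ ∀ v ∈ Eig (-b), c v = τ • v := by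
      intro τ hτ
      have e := eq_of_sides hD.two_ne hb hbc (hc1 τ) (y := c) (fun v _ => rfl)
        (fun v hv => by rw [hτ v hv]; simp)
      have t := congrArg (LinearMap.trace F V) e
      simp only [map_add, map_sub, map_smul, mul_smul_comm, mul_one, h4, h0 b hbR hbns, h0 c hcR n1,
        h0 _ (hD.mul_mem _ hbR _ hcR) n2, smul_eq_mul, mul_zero, sub_zero, zero_add] at t
      have : τ * ((2 : F)⁻¹ * 4) = 0 := by linear_combination -t
      rw [(mul_eq_zero.1 this).resolve_right htwo] at hτ
      haveI := nontrivial_eig hD hmR hm2 hmns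
      obtain ⟨w, hw⟩ := exists_ne (0 : Eig (-b))
      have hcw := congrArg (fun g : Module.End F V => g w) hc
      simp only [Module.End.mul_apply, hτ _ w.2, zero_smul, map_zero, Module.End.one_apply] at hcw
      exact hw (Subtype.ext hcw.symm)
    have hW := nontrivial_eig hD hmR hm2 hmns
    have hDW := hD.res hmR hm2
    have hfr : finrank F (Eig (-b)) = 2 := by
      have := finrank_eig_of_mem hD hmR hm2 hmns
      rw [hfr4] at this
      omega
    have hbc' : -b * c = c * -b := by rw [neg_mul, hbc, mul_neg]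
    haveI := finite_end_eig hD.two_ne hm2
    obtain ⟨u, v, huv⟩ := exists_of_commute hDW hfr (resEl_mem hcR hbc')
      (LinearMap.ext fun w => Subtype.ext (by
        simpa using congrArg (fun g : Module.End F V => g w) hc))
      (fun s hs => hcns' s fun w hw => by
        have := congrArg (fun g : Module.End F (Eig (-b)) => ((g ⟨w, hw⟩ : Eig (-b)) : V)) hs
        simpa using this)
      (f := resEl (-b) d hbd') (LinearMap.ext fun w => Subtype.ext (by
        simpa using congrArg (fun g : Module.End F V => g w) hcd))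
    have hdv : ∀ w ∈ Eig (-b), d w = u • w + v • c w := fun w hw => by
      have := congrArg (fun g : Module.End F (Eig (-b)) => ((g ⟨w, hw⟩ : Eig (-b)) : V)) huv
      simpa using this
    have hdd : ∀ w ∈ Eig (-b), (u * u + v * v - 1) • w + (2 * (u * v)) • c w = 0 := fun w hw => by
      have e2 := congrArg (fun g : Module.End F V => g w) hd
      have hcc : c (c w) = w := by
        simpa using congrArg (fun g : Module.End F V => g w) hc
      simp only [Module.End.mul_apply, Module.End.one_apply, hdv w hw, map_add, map_smul,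
        hdv _ (eig_neg_of hbc hw), hcc] at e2
      rw [← sub_eq_zero.2 e2]
      module
    have huv0 : u * v = 0 := by
      by_contra hne
      refine hcns' (-((2 * (u * v))⁻¹ * (u * u + v * v - 1))) fun w hw => ?_
      have h2 := eq_neg_of_add_eq_zero_right (hdd w hw)
      rw [← inv_smul_smul₀ (mul_ne_zero hD.two_ne hne) (c w), h2]
      module
    have hsum : u * u + v * v = 1 := by
      obtain ⟨w, hw⟩ := exists_ne (0 : Eig (-b))
      have := hdd w w.2
      rw [huv0, mul_zero, zero_smul, add_zero] at this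
      exact sub_eq_zero.1 ((smul_eq_zero.1 this).resolve_right fun h0 => hw (Subtype.ext h0))
    rcases mul_eq_zero.1 huv0 with h | h
    swap
    · exact absurd (fun w hw => by rw [hdv w hw, h, zero_smul, add_zero]) (hdns u)
    subst h
    rcases mul_self_eq_one_iff.1 (show v * v = 1 by linear_combination hsum) with rfl | rfl
    · rw [eq_of_eig_eq hD.two_ne hb h1 fun w hw => by
        rw [h1' w hw, hdv w hw, zero_smul, zero_add, one_smul]]
      exact hcR
    · rw [eq_of_eig_eq (f := y) (g := c * b) hD.two_ne hb (fun w hw => by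
          rw [h1 w hw, Module.End.mul_apply, mem_eig.1 hw])
        fun w hw => by
          rw [h1' w hw, hdv w hw, zero_smul, zero_add, neg_one_smul, Module.End.mul_apply,
            neg_eig hw, map_neg]]
      exact hD.mul_mem _ hcR _ hbR

set_option maxHeartbeats 1000000 in
/-- `Fix0` without controlled rotations. -/
theorem fix0_of_side (hD : Data i R) (hG : PGrp i R G) (hfr4 : finrank F V = 4)
    (hside : Side R G) (hnoC : NoControlled i R G) : Fix0 R G := by
  intro y hy b hbR hb hbns hyb
  have hi := hD.sq_i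
  rcases cases_of_commute hD hfr4 hside hy hbR hb hbns hyb with h | ⟨c, d, hcR, hdR, hc, hd, hbc, hbd, hcd, hcns, hbcns,
      hyc, hyd⟩
  · exact h
  exfalso
  obtain ⟨g, hg, g', hg', h1, h2, x, hxR, hx, hxns, hyx⟩ := hy
  set b' := g' * b * g with hb'
  have hb'C : Cls R G b' := cls_conj hG (cls_of_mem hD hG hbR hb hbns) hg' hg h2 h1
  have hgb : g * b' * g' = b := conj_conj h1 b
  have hxb' : b' * x = x * b' := by
    have hx' : x = g' * y * g := by rw [hyx, conj_conj h2]
    rw [hx', hb', conj_mul_conj h1, conj_mul_conj h1, hyb]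
  have pc : ∀ {f : Module.End F V}, b * f = f * b → ∀ {v}, v ∈ Eig b → f v ∈ Eig b :=
    fun hf _ hv => comm_mem_eig hf hv
  have tcomm : ∀ (z f : Module.End F V) (s : F), z * f = f * z →
      z * (1 + s • f) = (1 + s • f) * z := fun z f s h => by
    rw [mul_add, add_mul, mul_smul_comm, smul_mul_assoc, h, mul_one, one_mul]
  have tinv : ∀ r : Module.End F V, r * r = 1 →
      (1 + i • r) * (1 + -i • r) = (2 : F) • 1 := by
    intro r h
    rw [mul_add, mul_one, add_mul, one_mul, smul_mul_smul_comm, h, two_smul,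
      show i * -i = (1 : F) by linear_combination -hi, one_smul, neg_smul]
    abel
  rcases cases_of_commute hD hfr4 hside hb'C hxR hx hxns hxb' with hb'R |
      ⟨c₁, d₁, hc₁R, hd₁R, hc₁, hd₁, hxc₁, hxd₁, hcd₁, hc₁ns, -, hb'c, hb'd⟩
  · -- the quarter turn of `y` is paired with that of `b`
    have hpair : (1 + i • y) * (1 + i • b) ∈ G := by
      have := hG.mul_mem _ (hG.mul_mem _ hg _
        (hG.pair_mem x hxR b' hb'R hx hb'C.sq hxns hb'C.ns)) _ hg'
      convert this using 1
      rw [← conj_mul_conj h2]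
      congr 1
      · rw [mul_add, mul_one, add_mul, h1, mul_smul_comm, smul_mul_assoc, hyx]
      · rw [mul_add, mul_one, add_mul, h1, mul_smul_comm, smul_mul_assoc, hgb]
    have hmns : ∀ {f : Module.End F V}, NS f → NS (-f) := fun hf => by
      simpa using hf.smul (neg_ne_zero.2 one_ne_zero)
    have h4 := hG.mul_mem _ hpair _ (hG.pair_mem (-b) (hD.neg_mem hbR) (-c) (hD.neg_mem hcR)
      (by rw [neg_mul_neg, hb]) (by rw [neg_mul_neg, hc]) (hmns hbns) (hmns hcns))
    set e := (2 : F)⁻¹ • ((1 + i • y) * (1 + -i • c)) with he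
    have heG : e ∈ G := by
      have := hG.smul_mem' (inv_ne_zero (mul_ne_zero hD.two_ne hD.two_ne)) h4
      convert this using 1
      rw [mul_assoc, ← mul_assoc (1 + i • b), show (1 : Module.End F V) + i • -b =
        1 + -i • b by module, tinv b hb, smul_mul_assoc, one_mul, mul_smul_comm, smul_smul,
        show ((2 : F) * 2)⁻¹ * 2 = 2⁻¹ by
          rw [mul_inv, mul_assoc, inv_mul_cancel₀ hD.two_ne, mul_one], he,
        show (1 : Module.End F V) + i • -c = 1 + -i • c by module]
    refine hnoC b c d hbR hb hbns hcR hdR hc hd hcd hbc hbd e heG (fun v hv => ?_) fun v hv => ?_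
    · have hw := pc (tcomm b c (-i) hbc) hv
      have := congrArg (fun k : Module.End F V => k v) (tinv c hc)
      simp only [Module.End.mul_apply, LinearMap.smul_apply, Module.End.one_apply] at this
      rw [he, LinearMap.smul_apply, Module.End.mul_apply, LinearMap.add_apply,
        Module.End.one_apply, LinearMap.smul_apply, hyc _ hw]
      rw [show (1 + -i • c) v + i • c ((1 + -i • c) v) = (1 + i • c) ((1 + -i • c) v) from rfl,
        this, inv_smul_smul₀ hD.two_ne]
    · have hw := eig_neg_of (tcomm b c (-i) hbc) hv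
      rw [he, show (1 : Module.End F V) - i • c = 1 + -i • c by module]
      simp only [LinearMap.smul_apply, Module.End.mul_apply]
      generalize (1 + -i • c) v = w at hw ⊢
      simp [hyd w hw]
  -- the square root of `-b` commuting with `y`
  set k := (2 : F)⁻¹ • ((1 + i • c) * (1 + i • (b * c))) with hk
  have hbcR : b * c ∈ R := hD.mul_mem _ hbR _ hcR
  have hbc2 : b * c * (b * c) = 1 := by
    rw [mul_assoc, ← mul_assoc c b c, ← hbc, mul_assoc b c c, hc, mul_one, hb]
  have hkG : k ∈ G :=
    hG.smul_mem' (inv_ne_zero hD.two_ne) (hG.pair_mem c hcR _ hbcR hc hbc2 hcns hbcns)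
  have hcv : ∀ v, c (c v) = v := fun v => by
    simpa using congrArg (fun g : Module.End F V => g v) hc
  have hkp : ∀ v ∈ Eig b, k v = i • c v := fun v hv => by
    simp only [hk, LinearMap.smul_apply, Module.End.mul_apply, LinearMap.add_apply,
      Module.End.one_apply, mem_eig.1 (pc hbc hv), map_add, map_smul, hcv]
    match_scalars <;> first
      | ring1
      | linear_combination (2 : F)⁻¹ * hi
      | linear_combination i * inv_mul_cancel₀ hD.two_ne
  have hkm : ∀ v ∈ Eig (-b), k v = v := fun v hv => by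
    simp only [hk, LinearMap.smul_apply, Module.End.mul_apply, LinearMap.add_apply,
      Module.End.one_apply, neg_eig (eig_neg_of hbc hv), map_add, map_smul, map_neg, hcv, smul_neg]
    match_scalars <;> first
      | ring1
      | linear_combination inv_mul_cancel₀ hD.two_ne - (2 : F)⁻¹ * hi
  have hby : b * y = y * b := hyb.symm
  have hky : k * y = y * k := eq_of_eig_eq hD.two_ne hb
    (fun v hv => by
      rw [Module.End.mul_apply, Module.End.mul_apply, hyc v hv, hkp _ (pc hbc hv), hkp v hv,
        map_smul, hyc _ (pc hbc hv)])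
    (fun v hv => by simp only [Module.End.mul_apply, hkm _ (eig_neg_of hby hv), hkm v hv])
  have hkk : k * k = -b := eq_of_eig_eq hD.two_ne hb
    (fun v hv => by
      rw [Module.End.mul_apply, hkp v hv, map_smul, hkp _ (pc hbc hv), hcv, smul_smul, hi,
        neg_one_smul, LinearMap.neg_apply, mem_eig.1 hv])
    (fun v hv => by
      rw [Module.End.mul_apply, hkm v hv, hkm v hv, LinearMap.neg_apply, neg_eig hv, neg_neg])
  set k' := g' * k * g with hk'
  have hk'G : k' ∈ G := hG.mul_mem _ (hG.mul_mem _ hg' _ hkG) _ hg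
  have hk'x : x * k' = k' * x := by
    have hx' : x = g' * y * g := by rw [hyx, conj_conj h2]
    rw [hx', hk', conj_mul_conj h1, conj_mul_conj h1, hky]
  have hk'k : k' * k' = -b' := by
    rw [hk', conj_mul_conj h1, hkk, hb', mul_neg, neg_mul]
  -- the restrictions of the conjugate
  have hroot : ∀ z r : Module.End F V, z ∈ R → z * z = 1 → NS z → z * k' = k' * z →
      r ∈ R → r * r = 1 → z * r = r * z → (∀ σ : F, ¬ ∀ v ∈ Eig z, r v = σ • v) →
      (∀ v ∈ Eig z, b' v = r v) →
      ∃ α s : F, (s = 1 ∨ s = -1) ∧ α ^ 4 * 4 = -1 ∧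
        ∀ v ∈ Eig z, k' v = α • (v + i • (s • r) v) := by
    intro z r hzR hz hzns hzk hrR hr hzr hrns hb'r
    have hW := nontrivial_eig hD hzR hz hzns
    have hfr : finrank F (Eig z) = 2 := by
      have := finrank_eig_of_mem hD hzR hz hzns
      rw [hfr4] at this
      omega
    haveI := finite_end_eig hD.two_ne hz
    obtain ⟨α, s, hs, h4, hK⟩ := exists_root (hD.res hzR hz) hfr (resEl_mem hrR hzr)
      (LinearMap.ext fun w => Subtype.ext (by
        simpa using congrArg (fun g : Module.End F V => g w) hr))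
      (fun σ hσ => hrns σ fun w hw => by
        have := congrArg (fun g : Module.End F (Eig z) => ((g ⟨w, hw⟩ : Eig z) : V)) hσ
        simpa using this)
      (K := resEl z k' hzk) (LinearMap.ext fun w => Subtype.ext (by
        have := congrArg (fun g : Module.End F V => g w) hk'k
        simpa [hb'r _ w.2] using this))
    refine ⟨α, s, hs, h4, fun v hv => ?_⟩
    have := congrArg (fun g : Module.End F (Eig z) => ((g ⟨v, hv⟩ : Eig z) : V)) hK
    simpa using this
  have hxm : -x * -x = 1 := by rw [neg_mul_neg, hx]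
  have hxmns : NS (-x) := by simpa using hxns.smul (neg_ne_zero.2 one_ne_zero)
  -- neither restriction of `b'` is scalar
  have hc₁e : ∀ σ : F, ¬ ∀ v ∈ Eig x, c₁ v = σ • v := by
    intro σ h
    haveI := nontrivial_eig hD hxR hx hxns
    obtain ⟨w, hw⟩ := exists_ne (0 : Eig x)
    have := congrArg (fun g : Module.End F V => g w) hcd₁
    have hc0 : σ ≠ 0 := fun h0 => by
      have e := congrArg (fun g : Module.End F V => g w) hc₁
      simp [h _ w.2, h0] at e
      exact hw (Subtype.ext e.symm)
    simp only [Module.End.mul_apply, LinearMap.neg_apply, h _ (comm_mem_eig hxd₁ w.2), h _ w.2,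
      map_smul, eq_neg_iff_add_eq_zero, ← two_smul F, smul_smul] at this
    have hd0 := (smul_eq_zero.1 this).resolve_left (mul_ne_zero hD.two_ne hc0)
    have e := congrArg (fun g : Module.End F V => g w) hd₁
    simp [hd0] at e
    exact hw (Subtype.ext e.symm)
  have hd₁e : ∀ σ : F, ¬ ∀ v ∈ Eig (-x), d₁ v = σ • v := by
    intro σ h
    haveI := nontrivial_eig hD (hD.neg_mem hxR) hxm hxmns
    obtain ⟨w, hw⟩ := exists_ne (0 : Eig (-x))
    have := congrArg (fun g : Module.End F V => g w) hcd₁
    have hc0 : σ ≠ 0 := fun h0 => by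
      have e := congrArg (fun g : Module.End F V => g w) hd₁
      simp [h _ w.2, h0] at e
      exact hw (Subtype.ext e.symm)
    simp only [Module.End.mul_apply, LinearMap.neg_apply, h _ (eig_neg_of hxc₁ w.2), h _ w.2,
      map_smul, eq_neg_iff_add_eq_zero, ← two_smul F, smul_smul] at this
    have hd0 := (smul_eq_zero.1 this).resolve_left (mul_ne_zero hD.two_ne hc0)
    have e := congrArg (fun g : Module.End F V => g w) hc₁
    simp [hd0] at e
    exact hw (Subtype.ext e.symm)
  obtain ⟨α, s, hs, hα, hkx⟩ := hroot x c₁ hxR hx hxns hk'x hc₁R hc₁ hxc₁ hc₁e hb'c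
  obtain ⟨β, t, ht, hβ, hkx'⟩ := hroot (-x) d₁ (hD.neg_mem hxR) hxm hxmns
    (by rw [neg_mul, hk'x, mul_neg]) hd₁R hd₁ (by rw [neg_mul, hxd₁, mul_neg]) hd₁e hb'd
  set B := s • c₁ with hB
  set C := t • d₁ with hC
  have hBR : B ∈ R := by
    rcases hs with rfl | rfl
    · simpa [hB] using hc₁R
    · simpa [hB] using hD.neg_mem hc₁R
  have hCR : C ∈ R := by
    rcases ht with rfl | rfl
    · simpa [hC] using hd₁R
    · simpa [hC] using hD.neg_mem hd₁R
  have hBB : B * B = 1 := by rcases hs with rfl | rfl <;> simp [hB, hc₁]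
  have hCC : C * C = 1 := by rcases ht with rfl | rfl <;> simp [hC, hd₁]
  have hBC : B * C = -(C * B) := by
    rw [hB, hC, smul_mul_smul_comm, smul_mul_smul_comm, hcd₁, smul_neg, mul_comm s t]
  have hxB : x * B = B * x := by rw [hB, mul_smul_comm, smul_mul_assoc, hxc₁]
  have hxC : x * C = C * x := by rw [hC, mul_smul_comm, smul_mul_assoc, hxd₁]
  have hBns : NS B := by
    rw [hB]; exact hc₁ns.smul (by rcases hs with rfl | rfl <;> simp)
  have hi1 : (1 + i : F) ≠ 0 := fun h0 => hD.two_ne (by linear_combination (1 - i) * h0 + hi)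
  have hα0 : α ≠ 0 := fun h0 => by simp [h0] at hα
  set f := (1 + -i • B) * (1 + i • x) with hf
  have hfG : f ∈ G := by
    have := hG.pair_mem (-B) (hD.neg_mem hBR) x hxR (by rw [neg_mul_neg, hBB]) hx
      (by simpa using hBns.smul (neg_ne_zero.2 one_ne_zero)) hxns
    rwa [smul_neg, ← neg_smul] at this
  set κ := (2 * α * (1 + i))⁻¹ with hκ
  have hκ0 : 2 * α * (1 + i) ≠ 0 := mul_ne_zero (mul_ne_zero hD.two_ne hα0) hi1
  set e := κ • (k' * f) with he
  have heG : e ∈ G := hG.smul_mem' (inv_ne_zero hκ0) (hG.mul_mem _ hk'G _ hfG)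
  set γ := κ * (β * (1 - i) * 2) with hγ
  have hγ4 : γ ^ 4 = 1 := by
    have hκe : κ * (2 * α * (1 + i)) = 1 := inv_mul_cancel₀ hκ0
    have h3 : (1 - i) ^ 4 * β ^ 4 = (1 + i) ^ 4 * α ^ 4 := by
      have e1 : (1 - i) ^ 4 = -4 := by linear_combination (i * i - 4 * i + 5) * hi
      have e2 : (1 + i) ^ 4 = -4 := by linear_combination (i * i + 4 * i + 5) * hi
      rw [e1, e2]
      linear_combination -hβ + hα
    calc γ ^ 4 = κ ^ 4 * 2 ^ 4 * ((1 - i) ^ 4 * β ^ 4) := by rw [hγ]; ring
      _ = (κ * (2 * α * (1 + i))) ^ 4 := by rw [h3]; ring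
      _ = 1 := by rw [hκe, one_pow]
  set U := (2 : F)⁻¹ • ((1 + i • C) * (1 + -i • B)) with hU'
  have he1 : ∀ v ∈ Eig x, e v = v := fun v hv => by
    have hw : (1 + -i • B) v ∈ Eig x := comm_mem_eig (tcomm x B (-i) hxB) hv
    have hfv : f v = (1 + i) • (1 + -i • B) v := by
      rw [hf, Module.End.mul_apply, show (1 + i • x) v = (1 + i) • v by
        simp [mem_eig.1 hv, add_smul], map_smul]
    have := congrArg (fun k : Module.End F V => k v) (tinv B hBB)
    simp only [Module.End.mul_apply, LinearMap.smul_apply, Module.End.one_apply] at this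
    rw [he, LinearMap.smul_apply, Module.End.mul_apply, hfv, map_smul, hkx _ hw,
      show (1 + -i • B) v + i • B ((1 + -i • B) v) = (1 + i • B) ((1 + -i • B) v) from rfl, this,
      smul_smul, smul_smul, smul_smul, hκ, show (2 * α * (1 + i))⁻¹ * (1 + i) * α * 2 = 1 by
        rw [mul_assoc, mul_assoc, show (1 + i) * (α * 2) = 2 * α * (1 + i) by ring,
          inv_mul_cancel₀ hκ0],
      one_smul]
  have he2 : ∀ v ∈ Eig (-x), e v = γ • U v := fun v hv => by
    have hw : (1 + -i • B) v ∈ Eig (-x) := eig_neg_of (tcomm x B (-i) hxB) hv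
    have hfv : f v = (1 - i) • (1 + -i • B) v := by
      rw [hf, Module.End.mul_apply, show (1 + i • x) v = (1 - i) • v by
        simp [neg_eig hv, sub_smul, ← sub_eq_add_neg], map_smul]
    rw [he, LinearMap.smul_apply, Module.End.mul_apply, hfv, map_smul, hkx' _ hw,
      show (1 + -i • B) v + i • C ((1 + -i • B) v) = (1 + i • C) ((1 + -i • B) v) from rfl,
      hU', LinearMap.smul_apply, Module.End.mul_apply, hγ]
    generalize (1 + i • C) ((1 + -i • B) v) = X
    have := hD.two_ne
    match_scalars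
    field_simp
  have hxU : x * U = U * x := by
    rw [hU', mul_smul_comm, smul_mul_assoc, ← mul_assoc, tcomm x C i hxC, mul_assoc,
      tcomm x B (-i) hxB, mul_assoc]
  have hU4 : U * U * U * U = -U := by
    set A := i • C - i • B + C * B with hA
    have hAA : A * A = -(3 : F) • 1 := mul_self_sum_eq_neg_three hD hBB hCC hBC
    have hUA : U = (2 : F)⁻¹ • (1 + A) := by
      rw [hU', hA]
      simp only [mul_add, add_mul, mul_one, one_mul, smul_mul_smul_comm,
        show i * -i = (1 : F) by linear_combination -hi]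
      module
    have hh := inv_mul_cancel₀ hD.two_ne
    have h4 : (4 : F) ≠ 0 := by
      rw [show (4 : F) = 2 * 2 by norm_num]; exact mul_ne_zero hD.two_ne hD.two_ne
    clear_value U A
    have h2U : (2 : F) • U = 1 + A := by rw [hUA, smul_inv_smul₀ hD.two_ne]
    have hUU : U * U = U - 1 := smul_right_injective _ h4 (by
      show (4 : F) • (U * U) = (4 : F) • (U - 1)
      calc (4 : F) • (U * U) = ((2 : F) • U) * ((2 : F) • U) := by
            rw [smul_mul_smul_comm, show (2 : F) * 2 = 4 by norm_num]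
        _ = (1 + A) * (1 + A) := by rw [h2U]
        _ = (2 : F) • ((1 + A) - (2 : F) • 1) := by
            rw [show (1 + A) * (1 + A) = 1 + A + A + A * A by noncomm_ring, hAA]; module
        _ = (4 : F) • (U - 1) := by rw [← h2U]; module)
    have h3' : U * U * U = -1 := by
      rw [hUU, sub_mul, one_mul, hUU]; abel
    rw [h3', neg_one_mul]
  have h44 : x * (e * e * e * e) ∈ G :=
    hG.mul_mem _ (hG.sub hxR) _
      (hG.mul_mem _ (hG.mul_mem _ (hG.mul_mem _ heG _ heG) _ heG) _ heG)
  refine hnoC x B C hxR hx hxns hBR hCR hBB hCC hBC hxB hxC _ h44 (fun v hv => ?_) fun v hv => ?_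
  · simp only [Module.End.mul_apply, he1 v hv, mem_eig.1 hv]
  · have pU : ∀ {w}, w ∈ Eig (-x) → U w ∈ Eig (-x) := fun hw => eig_neg_of hxU hw
    have hU4v : U (U (U (U v))) = -U v := by
      simpa using congrArg (fun g : Module.End F V => g v) hU4
    simp only [Module.End.mul_apply, he2 _ hv, map_smul, he2 _ (pU hv), he2 _ (pU (pU hv)),
      he2 _ (pU (pU (pU hv))), hU4v, smul_smul, map_neg, smul_neg]
    rw [show γ * (γ * (γ * γ)) = 1 by rw [← hγ4]; ring, one_smul, neg_eig (pU hv), neg_neg, hU',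
      LinearMap.smul_apply, show (1 : Module.End F V) - i • B = 1 + -i • B by module,
      Module.End.mul_apply]

end Group

variable [Finite F] {R G : Set (Module.End F (Fin 4 → F))}

/-- Conjugates of involutions of `R` are isometries. -/
lemma cls_isom (hR : CSixU.Isom q R) (hU : CSixU.Simil q G) {y : Module.End F (Fin 4 → F)}
    (h : Cls R G y) (u v : Fin 4 → F) : herm q (y u) (y v) = herm q u v := by
  obtain ⟨g, hg, g', -, h1, -, x, hxR, -, -, rfl⟩ := h
  obtain ⟨c, hc⟩ := hU g hg
  have hgg : ∀ w, g (g' w) = w := fun w => by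
    rw [← Module.End.mul_apply, h1, Module.End.one_apply]
  rw [Module.End.mul_apply, Module.End.mul_apply, Module.End.mul_apply, Module.End.mul_apply, hc,
    hR x hxR, ← hc, hgg, hgg]

/-- The shape of an involution commuting with a non-scalar involution of `R` on one eigenspace. -/
lemma side (hF : SqField F q) (hq : q.Prime) (hq8 : q % 8 = 3) (hD : Data i R)
    (hR : CSixU.Isom q R) (hGood : Good R G) {y : Module.End F (Fin 4 → F)} (hyG : y ∈ G)
    (hy : y * y = 1) (hyiso : ∀ u v, herm q (y u) (y v) = herm q u v)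
    {z : Module.End F (Fin 4 → F)} (hzR : z ∈ R) (hz : z * z = 1) (hzns : NS z)
    (hzy : z * y = y * z) :
    (∃ σ : F, (σ = 1 ∨ σ = -1) ∧ ∀ v ∈ Eig z, y v = σ • v) ∨
      ∃ c ∈ R, c * c = 1 ∧ z * c = c * z ∧ (∀ v ∈ Eig z, y v = c v) ∧
        ∀ σ : F, ¬ ∀ v ∈ Eig z, c v = σ • v := by
  obtain ⟨a, haR, ha, hza⟩ := hD.exists_anticomm hzR hzns
  obtain ⟨m, j, hm, hj⟩ := CSixU.exists_param hF hD hR hzR hz haR ha hza
  obtain rfl : m = 2 := by omega
  haveI : Nonempty (Fin 4) := ⟨0⟩
  have := nontrivial_eig hD hzR hz hzns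
  set φ := (CSixU.paramEquiv j).symm (resEl z y hzy) with hφ
  have hpφ : CSixU.paramEquiv j φ = resEl z y hzy := AlgEquiv.apply_symm_apply _ _
  have hφy : ∀ u, y (j u : Fin 4 → F) = (j (φ u) : Fin 4 → F) := fun u => by
    have := congrArg (fun f : Module.End F (Eig z) => ((f (j u) : Eig z) : Fin 4 → F)) hpφ
    simp only [CSixU.paramEquiv_apply, j.symm_apply_apply, resEl_coe] at this
    exact this.symm
  have hN : Nrm (CSixU.ParR j R) φ := by
    rw [CSixU.nrm_parR_iff, hpφ]
    exact hGood z hzR hz hzns _ (resEl_mem hyG hzy)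
  have hφ2 : φ * φ = 1 := LinearMap.ext fun u => j.injective (Subtype.ext (by
    rw [Module.End.mul_apply, ← hφy, ← hφy, ← Module.End.mul_apply, hy]; rfl))
  obtain ⟨f, hfR, hfz, hf⟩ := (CSixU.mem_parR j).1 (mem_of_nrm_plane hF hq hq8
    (CSixU.parR_data (by norm_num) hD hzR hz j) (CSixU.parR_isom hR j hj) hφ2
    (fun u v => by rw [← hj, ← hφy, ← hφy, hyiso, hj]) hN)
  have hyf : ∀ v ∈ Eig z, y v = f v := fun v hv => by
    obtain ⟨u, hu⟩ := j.surjective ⟨v, hv⟩
    have e : (j u : Fin 4 → F) = v := congrArg Subtype.val hu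
    rw [← e, hφy, hf]
  by_cases hsc : ∃ σ : F, ∀ v ∈ Eig z, f v = σ • v
  · obtain ⟨σ, hσ⟩ := hsc
    refine Or.inl ⟨σ, ?_, fun v hv => (hyf v hv).trans (hσ v hv)⟩
    obtain ⟨w, hw⟩ := exists_ne (0 : Eig z)
    have hw0 : (w : Fin 4 → F) ≠ 0 := fun h0 => hw (Subtype.ext h0)
    refine mul_self_eq_one_iff.1 (smul_left_injective F hw0 ?_)
    have hyw : y (w : Fin 4 → F) = σ • (w : Fin 4 → F) := (hyf _ w.2).trans (hσ _ w.2)
    have := congrArg (fun g : Module.End F (Fin 4 → F) => g w) hy
    simp only [Module.End.mul_apply, Module.End.one_apply, hyw, map_smul, smul_smul] at this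
    simpa using this
  · push Not at hsc
    refine Or.inr ⟨f, hfR, (hD.sq_sign f hfR).resolve_right fun h => ?_, hfz, hyf, fun σ h => ?_⟩
    · obtain ⟨w, hw⟩ := exists_ne (0 : Eig z)
      have e1 := congrArg (fun g : Module.End F (Fin 4 → F) => g w) h
      have e2 := congrArg (fun g : Module.End F (Fin 4 → F) => g w) hy
      simp only [Module.End.mul_apply, LinearMap.neg_apply, Module.End.one_apply] at e1 e2
      rw [← hyf _ w.2, ← hyf _ (comm_mem_eig hzy w.2), e2, eq_neg_iff_add_eq_zero,
        ← two_smul F] at e1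
      exact hw (Subtype.ext ((smul_eq_zero.1 e1).resolve_left hD.two_ne))
    · obtain ⟨v, hv, hne⟩ := hsc σ
      exact hne (h v hv)

/-- `Side` from `Good`. -/
theorem side_of_good (hF : SqField F q) (hq : q.Prime) (hq8 : q % 8 = 3) (hD : Data i R)
    (hG : PGrp i R G) (hR : CSixU.Isom q R) (hU : CSixU.Simil q G) (hGood : Good R G) :
    Side R G := fun y hy z hzR hz hzns hzy =>
  side hF hq hq8 hD hR hGood (cls_mem_G hG hy) hy.sq (cls_isom hR hU hy) hzR hz hzns hzy

end Cfsg.Agent.SU4.Six
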