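import Cfsg.Agent.SU4.Six.Defs

/-!
No controlled rotation, from pairs of quarter turns.
-/

set_option autoImplicit false
set_option linter.unusedSimpArgs false

namespace Cfsg.Agent.SU4.Six

open Cfsg.Agent.MaxSub CSix

variable {F : Type*} [Field F] {V : Type*} [AddCommGroup V] [Module F V]
variable {i : F} {R G : Set (Module.End F V)}
variable [Nontrivial V] [FiniteDimensional F V] [Finite (Module.End F V)]

set_option maxHeartbeats 1000000 in
/-- The controlled rotation of order three is not in `G`. -/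
lemma no_controlled (hD : Data i R) (hG : PGrp i R G) (hGood : Good R G) (hA : Antidiag i)
    (h3 : (3 : F) ≠ 0) {x b c : Module.End F V} (hxR : x ∈ R) (hx : x * x = 1) (hns : NS x)
    (hbR : b ∈ R) (hcR : c ∈ R) (hb : b * b = 1) (hc : c * c = 1) (hbc : b * c = -(c * b))
    (hxb : x * b = b * x) (hxc : x * c = c * x) {e : Module.End F V} (heG : e ∈ G)
    (he1 : ∀ v ∈ Eig x, e v = v)
    (he2 : ∀ v ∈ Eig (-x), e v = (2 : F)⁻¹ • ((1 + i • c) * (1 - i • b)) v) : False := by
  set A := i • c - i • b + c * b with hA'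
  have hAA : A * A = -(3 : F) • 1 := mul_self_sum_eq_neg_three hD hb hc hbc
  have hcomA : ∀ t, t * b = b * t → t * c = c * t → t * A = A * t := by
    intro t h1 h2
    simp only [hA', mul_add, mul_sub, add_mul, sub_mul, mul_smul_comm, smul_mul_assoc, h1, h2,
      ← mul_assoc]
    rw [mul_assoc c t b, h1, ← mul_assoc]
  -- an involution anticommuting with `x` and commuting with `b`, `c`
  obtain ⟨a, haR, ha, hxa, hab, hac⟩ : ∃ a ∈ R, a * a = 1 ∧ x * a = -(a * x) ∧
      a * b = b * a ∧ a * c = c * a := by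
    suffices ∃ a ∈ R, x * a = -(a * x) ∧ a * b = b * a ∧ a * c = c * a by
      obtain ⟨a, haR, h1, h2, h3⟩ := this
      obtain ⟨d, hd, hdm, hdsq⟩ := hD.exists_sq_one haR
      exact ⟨d • a, hdm, hdsq, by rw [mul_smul_comm, h1, smul_mul_assoc, smul_neg],
        by rw [smul_mul_assoc, h2, mul_smul_comm], by rw [smul_mul_assoc, h3, mul_smul_comm]⟩
    obtain ⟨a, haR, -, hxa⟩ := hD.exists_anticomm hxR hns
    have hcb : c * b = -(b * c) := by rw [hbc, neg_neg]
    have push : ∀ q, x * q = q * x → x * (a * q) = -(a * q * x) := fun q hq => by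
      rw [← mul_assoc, hxa, neg_mul, mul_assoc, hq, ← mul_assoc]
    rcases hD.comm_sign a haR b hbR with e1 | e1 <;> rcases hD.comm_sign a haR c hcR with e2 | e2
    · exact ⟨a, haR, hxa, e1, e2⟩
    · refine ⟨a * b, hD.mul_mem _ haR _ hbR, push b hxb, ?_, ?_⟩
      · rw [← mul_assoc, e1]
      · rw [mul_assoc, hbc, mul_neg, ← mul_assoc, e2, neg_mul, neg_neg, mul_assoc]
    · refine ⟨a * c, hD.mul_mem _ haR _ hcR, push c hxc, ?_, ?_⟩
      · rw [mul_assoc, hcb, mul_neg, ← mul_assoc, e1, neg_mul, neg_neg, mul_assoc]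
      · rw [← mul_assoc, e2]
    · refine ⟨a * (b * c), hD.mul_mem _ haR _ (hD.mul_mem _ hbR _ hcR),
        push _ (by rw [← mul_assoc, hxb, mul_assoc, hxc, mul_assoc]), ?_, ?_⟩
      · rw [mul_assoc, mul_assoc b c b, hcb, mul_neg, mul_neg, ← mul_assoc a b, e1, neg_mul,
          neg_neg, mul_assoc]
      · rw [mul_assoc, mul_assoc b c c, hc, mul_one, ← mul_assoc c a, show c * a = -(a * c) by
          rw [e2, neg_neg], neg_mul, mul_assoc a c, ← mul_assoc c b c, hcb, neg_mul,
          mul_assoc b c c, hc, mul_one, mul_neg, neg_neg]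
  have hxA := hcomA x hxb hxc
  have haA := hcomA a hab hac
  set P := (2 : F)⁻¹ • (1 + x) with hP
  set Q := (2 : F)⁻¹ • (1 - x) with hQ
  have hPQ1 : P + Q = 1 := by
    rw [hP, hQ, ← smul_add, show (1 + x + (1 - x) : Module.End F V) = (2 : F) • 1 by
      rw [two_smul]; abel, inv_smul_smul₀ hD.two_ne]
  have hQP : Q * P = 0 := by
    rw [hP, hQ, smul_mul_smul_comm, sub_mul, one_mul, mul_add, mul_one, hx]
    simp [add_comm]
  have hPQ : P * Q = 0 := by
    rw [hP, hQ, smul_mul_smul_comm, add_mul, one_mul, mul_sub, mul_one, hx]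
    simp
  have hPP : P * P = P := by
    have := congrArg (P * ·) hPQ1
    simpa [mul_add, hPQ] using this
  have hQQ : Q * Q = Q := by
    have := congrArg (Q * ·) hPQ1
    simpa [mul_add, hQP] using this
  set h := (2 : F)⁻¹ • (1 + A) with hh
  set h' := (2 : F)⁻¹ • (1 - A) with hh'
  have hhh : h * h' = 1 := by
    rw [hh, hh', smul_mul_smul_comm, add_mul, one_mul, mul_sub, mul_one, hAA]
    have : (1 : Module.End F V) - A + (A - -(3 : F) • 1) = ((2 : F) * 2) • 1 := by
      match_scalars <;> ring
    rw [this, smul_smul, ← mul_inv, inv_mul_cancel₀ (mul_ne_zero hD.two_ne hD.two_ne), one_smul]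
  have hPh : P * h' = h' * P := by
    simp only [hP, hh', smul_mul_smul_comm, add_mul, mul_add, mul_sub, sub_mul, one_mul, mul_one,
      hxA]
    abel
  have hQh : Q * h = h * Q := by
    simp only [hQ, hh, smul_mul_smul_comm, add_mul, mul_add, mul_sub, sub_mul, one_mul, mul_one,
      hxA]
    abel
  have hah : a * h' = h' * a := by
    simp only [hh', smul_mul_assoc, mul_smul_comm, mul_sub, sub_mul, one_mul, mul_one, haA]
  have haPa : a * P * a = Q := by
    rw [hP, hQ, mul_smul_comm, smul_mul_assoc, mul_add, mul_one, add_mul, ha, mul_assoc, hxa,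
      mul_neg, ← mul_assoc, ha, one_mul, sub_eq_add_neg]
  have haQa : a * Q * a = P := by
    rw [← haPa]
    simp only [mul_assoc]
    rw [ha, mul_one, ← mul_assoc, ha, one_mul]
  have heq : e = P + h * Q := by
    refine LinearMap.ext fun v => ?_
    have hxx : x (x v) = v := by simpa using congrArg (fun k : Module.End F V => k v) hx
    have h1 : e (P v) = P v := he1 _ (mem_eig.2 (by
      simp [hP, map_smul, map_add, hxx, add_comm]))
    have h2 : e (Q v) = h (Q v) := by
      rw [he2 _ (mem_eig.2 (by simp [hQ, map_smul, map_sub, hxx, sub_eq_add_neg, add_comm,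
        ← smul_neg])), hh, LinearMap.smul_apply]
      congr 2
      rw [hA', add_mul, one_mul, smul_mul_assoc, mul_sub, mul_one, mul_smul_comm, smul_sub,
        smul_smul, hD.sq_i, neg_one_smul]
      abel
    calc e v = e ((P + Q) v) := by rw [hPQ1, Module.End.one_apply]
      _ = _ := by simp [h1, h2]
  -- the rotation `(1 - x A) / 2`
  obtain ⟨e', he'G, ee1, ee2⟩ := hG.inv_mem e heG
  have he' : e' = P + h' * Q := by
    refine (left_inv_eq_right_inv ee2 ?_).trans rfl
    rw [heq, add_mul, mul_add, mul_add, hPP, ← mul_assoc P, hPh, mul_assoc h' P, hPQ, mul_zero,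
      mul_assoc h Q P, hQP, mul_zero, add_zero, zero_add, ← mul_assoc (h * Q), mul_assoc h Q h',
      show Q * h' = h' * Q by
        simp only [hQ, hh', smul_mul_smul_comm, mul_sub, sub_mul, one_mul, mul_one, hxA]; abel,
      ← mul_assoc h, hhh, one_mul, hQQ, hPQ1]
  set D := a * e' * a * e with hD'
  have hDG : D ∈ G := hG.mul_mem _ (hG.mul_mem _ (hG.mul_mem _ (hG.sub haR) _ he'G) _
    (hG.sub haR)) _ heG
  have hDeq : D = (2 : F)⁻¹ • (1 - x * A) := by
    have h1 : a * e' * a = Q + h' * P := by
      rw [he', mul_add, add_mul, haPa, ← mul_assoc a h', hah, mul_assoc h' a, mul_assoc h',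
        haQa]
    rw [hD', h1, heq, add_mul, mul_add, mul_add, hQP, ← mul_assoc Q h, hQh, mul_assoc h Q, hQQ,
      mul_assoc h' P P, hPP, mul_assoc h' P, ← mul_assoc P h, show P * h = h * P by
        simp only [hP, hh, smul_mul_smul_comm, mul_add, add_mul, one_mul, mul_one, hxA]; abel,
      mul_assoc h P, hPQ, mul_zero, mul_zero, add_zero, zero_add]
    have hh4 : (4 : F)⁻¹ * 2 = (2 : F)⁻¹ := by
      rw [show (4 : F) = 2 * 2 by norm_num, mul_inv, inv_mul_cancel_right₀ hD.two_ne]
    simp only [hh, hh', hP, hQ, smul_mul_smul_comm, add_mul, sub_mul, mul_add, mul_sub, one_mul,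
      mul_one, hxA]
    match_scalars <;> field_simp <;> (try ring_nf) <;> first | linear_combination hh4 | linear_combination -hh4
  -- the commutant algebra
  set d := i • (x * a) with hd
  have hdR : d ∈ R := hD.i_smul_mem (hD.mul_mem _ hxR _ haR)
  have hdd : d * d = 1 := by
    rw [hd, hD.i_smul_sq, mul_assoc, ← mul_assoc a x a, show a * x = -(x * a) by
      rw [hxa, neg_neg], neg_mul, mul_assoc, ha, mul_one, mul_neg, hx, neg_neg]
  have hxd : x * d = -(d * x) := by
    rw [hd, mul_smul_comm, smul_mul_assoc, ← smul_neg, mul_assoc x a x, show a * x = -(x * a) by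
      rw [hxa, neg_neg], mul_neg, neg_neg]
  have hdns : NS d := hD.ns_of_anticomm hxR hdR (by rw [hxd, neg_neg])
  have hdb : d * b = b * d := by
    rw [hd, smul_mul_assoc, mul_smul_comm, mul_assoc, hab, ← mul_assoc, hxb, mul_assoc]
  have hdc : d * c = c * d := by
    rw [hd, smul_mul_assoc, mul_smul_comm, mul_assoc, hac, ← mul_assoc, hxc, mul_assoc]
  have hdA := hcomA d hdb hdc
  set u := x * A with hu
  have huu : u * u = -(3 : F) • 1 := by
    rw [hu, mul_assoc, ← mul_assoc A x, ← hxA, mul_assoc x A A, ← mul_assoc, hx, one_mul, hAA]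
  have hdu : d * u = -(u * d) := by
    rw [hu, ← mul_assoc, show d * x = -(x * d) by rw [hxd, neg_neg], neg_mul, mul_assoc, hdA,
      ← mul_assoc]
  set E₀ := (2 : F)⁻¹ • (1 + d) with hE₀
  set E₁ := (2 : F)⁻¹ • (1 - d) with hE₁
  have h4 : (2 : F)⁻¹ * (2 : F)⁻¹ * 2 = (2 : F)⁻¹ := inv_mul_cancel_right₀ hD.two_ne _
  have h00 : E₀ * E₀ = E₀ := by
    have e : (1 + d) * (1 + d) = (2 : F) • (1 + d) := by
      rw [two_smul]
      calc (1 + d) * (1 + d) = 1 + d + d + d * d := by noncomm_ring
        _ = _ := by rw [hdd]; abel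
    rw [hE₀, smul_mul_smul_comm, e, smul_smul, h4]
  have h11 : E₁ * E₁ = E₁ := by
    have e : (1 - d) * (1 - d) = (2 : F) • (1 - d) := by
      rw [two_smul]
      calc (1 - d) * (1 - d) = 1 - d - d + d * d := by noncomm_ring
        _ = _ := by rw [hdd]; abel
    rw [hE₁, smul_mul_smul_comm, e, smul_smul, h4]
  have h01 : E₀ * E₁ = 0 := by
    simp only [hE₀, hE₁, smul_mul_smul_comm, add_mul, mul_sub, one_mul, mul_one, hdd]
    match_scalars <;> ring
  have h10 : E₁ * E₀ = 0 := by
    simp only [hE₀, hE₁, smul_mul_smul_comm, sub_mul, mul_add, one_mul, mul_one, hdd]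
    match_scalars <;> ring
  have h0u : E₀ * u = u * E₁ := by
    simp only [hE₀, hE₁, smul_mul_assoc, mul_smul_comm, add_mul, mul_sub, one_mul, mul_one, hdu]
    abel
  have h1u : E₁ * u = u * E₀ := by
    simp only [hE₀, hE₁, smul_mul_assoc, mul_smul_comm, sub_mul, mul_add, one_mul, mul_one, hdu]
    abel
  set φ := blockMap u E₀ E₁ with hφ
  have hφ1 : φ 1 = 1 := by
    simp only [hφ, blockMap, Matrix.one_apply_eq, ne_eq, Fin.reduceEq, not_false_eq_true,
      Matrix.one_apply_ne, zero_mul, zero_smul, add_zero, one_smul, hE₀, hE₁]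
    rw [← smul_add, show (1 + d + (1 - d) : Module.End F V) = (2 : F) • 1 by
      rw [two_smul]; abel, inv_smul_smul₀ hD.two_ne]
  have hφmul : ∀ M N, φ (M * N) = φ M * φ N :=
    blockMap_mul h3 huu h00 h11 h01 h10 h0u h1u
  -- an element commuting with the image, standing for a quarter turn
  have hbns : NS b := hD.ns_of_anticomm hcR hbR hbc |> fun h => h
  have hcns : NS c := hD.ns_of_anticomm hbR hcR (by rw [hbc, neg_neg])
  set n := b + c with hn'
  set m := n * d with hm
  have hnn : n * n = (2 : F) • 1 := by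
    rw [hn', add_mul, mul_add, mul_add, hb, hc, hbc, two_smul]
    abel
  have hdn : d * n = n * d := by rw [hn', mul_add, add_mul, hdb, hdc]
  have hmm : m * m = (2 : F) • 1 := by
    rw [hm, mul_assoc, ← mul_assoc d n d, hdn, mul_assoc n d d, hdd, mul_one, hnn]
  have hbcb : b * c * b = -c := by rw [hbc, neg_mul, mul_assoc, hb, mul_one]
  have hcbc : c * b * c = -b := by
    rw [mul_assoc, hbc, mul_neg, ← mul_assoc, hc, one_mul]
  have hcbb : c * b * b = c := by rw [mul_assoc, hb, mul_one]
  have hnA : n * A = -(A * n) := by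
    have e1 : n * c + c * n = (2 : F) • 1 := by
      rw [hn', add_mul, mul_add, hc, hbc, two_smul]; abel
    have e2 : n * b + b * n = (2 : F) • 1 := by
      rw [hn', add_mul, mul_add, hb, hbc, two_smul]; abel
    have e3 : n * (c * b) + c * b * n = 0 := by
      rw [hn', add_mul, mul_add, ← mul_assoc, ← mul_assoc, hbcb, hc, one_mul, hcbb, hcbc]
      abel
    rw [eq_neg_iff_add_eq_zero, hA']
    calc n * (i • c - i • b + c * b) + (i • c - i • b + c * b) * n
        = i • (n * c + c * n) - i • (n * b + b * n) + (n * (c * b) + c * b * n) := by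
          simp only [mul_add, mul_sub, add_mul, sub_mul, mul_smul_comm, smul_mul_assoc, smul_add]
          abel
      _ = 0 := by rw [e1, e2, e3]; abel
  have hxn : x * n = n * x := by rw [hn', mul_add, add_mul, hxb, hxc]
  have hmu : m * u = u * m := by
    have e1 : d * x = -(x * d) := by rw [hxd, neg_neg]
    rw [hm, hu]
    calc n * d * (x * A) = n * (d * x) * A := by simp only [mul_assoc]
      _ = -(n * x * (d * A)) := by rw [e1]; simp only [mul_neg, neg_mul, mul_assoc]
      _ = -(x * (n * A) * d) := by rw [← hxn, hdA]; simp only [mul_assoc]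
      _ = x * A * (n * d) := by rw [hnA]; simp only [mul_neg, neg_mul, neg_neg, mul_assoc]
  have hmd : m * d = d * m := by rw [hm, mul_assoc, ← mul_assoc d n d, hdn, mul_assoc]
  have hmE₀ : m * E₀ = E₀ * m := by
    rw [hE₀, mul_smul_comm, smul_mul_assoc, mul_add, add_mul, hmd, mul_one, one_mul]
  have hmE₁ : m * E₁ = E₁ * m := by
    rw [hE₁, mul_smul_comm, smul_mul_assoc, mul_sub, sub_mul, hmd, mul_one, one_mul]
  have hmφ : ∀ M, m * φ M = φ M * m := by
    intro M
    simp only [hφ, blockMap, mul_add, add_mul, mul_smul_comm, smul_mul_assoc, hmE₀, hmE₁,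
      ← mul_assoc, hmu]
    simp only [mul_assoc, hmE₀, hmE₁]
  have h2i : (2 * i : F) ≠ 0 := mul_ne_zero hD.two_ne hD.i_ne
  let H : Subgroup (GL (Fin 2) F) :=
    { carrier := {g | φ (g : Matrix (Fin 2) (Fin 2) F) ∈ G ∨
        φ (g : Matrix (Fin 2) (Fin 2) F) * m ∈ G}
      mul_mem' := fun {g k} hg hk => by
        simp only [Set.mem_setOf_eq, Units.val_mul, hφmul] at hg hk ⊢
        rcases hg with hg | hg <;> rcases hk with hk | hk
        · exact Or.inl (hG.mul_mem _ hg _ hk)
        · exact Or.inr (by rw [mul_assoc]; exact hG.mul_mem _ hg _ hk)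
        · exact Or.inr (by rw [mul_assoc, ← hmφ, ← mul_assoc]; exact hG.mul_mem _ hg _ hk)
        · refine Or.inl ?_
          have := hG.smul_mem' (inv_ne_zero hD.two_ne) (hG.mul_mem _ hg _ hk)
          rwa [mul_assoc, ← mul_assoc m, hmφ, mul_assoc (φ _) m m, hmm, mul_smul_comm, mul_one,
            mul_smul_comm, inv_smul_smul₀ hD.two_ne] at this
      one_mem' := Or.inl (by rw [Units.val_one, hφ1]; exact hG.sub hD.one_mem)
      inv_mem' := fun {g} hg => by
        simp only [Set.mem_setOf_eq] at hg ⊢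
        rcases hg with hg | hg
        · obtain ⟨k, hk, k1, k2⟩ := hG.inv_mem _ hg
          have : φ (g⁻¹ : GL (Fin 2) F) = k := left_inv_eq_right_inv (by
            rw [← hφmul, ← Units.val_mul, inv_mul_cancel, Units.val_one, hφ1]) k1
          exact Or.inl (this ▸ hk)
        · obtain ⟨k, hk, k1, k2⟩ := hG.inv_mem _ hg
          have : φ (g⁻¹ : GL (Fin 2) F) = m * k := left_inv_eq_right_inv (by
            rw [← hφmul, ← Units.val_mul, inv_mul_cancel, Units.val_one, hφ1])
            (by rw [← mul_assoc, k1])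
          refine Or.inr ?_
          rw [← hmφ, this, ← mul_assoc, hmm, smul_mul_assoc, one_mul]
          exact hG.smul_mem' hD.two_ne hk }
  have hH0 : ∀ g : GL (Fin 2) F, (∃ c : F, (g : Matrix (Fin 2) (Fin 2) F) = c • 1) → g ∈ H := by
    rintro g ⟨t, ht⟩
    have ht0 : t ≠ 0 := fun h0 => by
      have := g.isUnit; rw [ht, h0, zero_smul] at this; exact this.ne_zero rfl
    refine Or.inl ?_
    rw [ht]
    have : φ (t • 1) = t • φ 1 := by
      simp only [hφ, blockMap, Matrix.smul_apply, smul_eq_mul]
      match_scalars <;> ring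
    rw [this, hφ1]
    exact hG.smul_mem t ht0
  have hH1 : ∀ g : GL (Fin 2) F, (g : Matrix (Fin 2) (Fin 2) F) = !![1, 0; 0, i] → g ∈ H := by
    intro g hg
    refine Or.inr ?_
    rw [hg]
    have : φ !![1, 0; 0, i] = (((2 : F)⁻¹) * (1 + i)) • (1 + i • (-d)) := by
      simp only [hφ, blockMap, Matrix.of_apply, Matrix.cons_val', Matrix.cons_val_zero,
        Matrix.cons_val_one, Matrix.empty_val', Matrix.cons_val_fin_one, hE₀, hE₁, zero_mul]
      have hi := hD.sq_i
      match_scalars <;> field_simp <;> first | linear_combination (-1 : F) * hi | linear_combination (1 + i * (2 : F)⁻¹) * hi | (ring_nf; simp only [show i ^ 2 = -1 by linear_combination hi, show i ^ 3 = -i by linear_combination i * hi]; ring1)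
    have hn3 : (2 * i) • n = (1 + i • b) * (1 + i • c) * (1 + i • b) := by
      simp only [hn', mul_add, add_mul, mul_one, one_mul, smul_mul_assoc, mul_smul_comm,
        ← mul_assoc, hb, hbcb, smul_smul, hD.sq_i, hbc, neg_mul, hcbb, smul_neg, smul_add]
      match_scalars <;> first | ring | linear_combination (-1 : F) * hD.sq_i | linear_combination hD.sq_i | linear_combination i * hD.sq_i | linear_combination -i * hD.sq_i | linear_combination (-2 : F) * hD.sq_i | linear_combination (2 : F) * hD.sq_i
    have hpair : (1 + i • -d) * m ∈ G := by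
      have h1 := hG.mul_mem _ (hG.mul_mem _
        (hG.pair_mem _ (hD.neg_mem hdR) b hbR (by simp [hdd]) hb
          (by simpa using hdns.smul (neg_ne_zero.2 one_ne_zero)) hbns) _
        (hG.pair_mem c hcR b hbR hc hb hcns hbns)) _ (hG.sub hdR)
      have h2 := hG.smul_mem' (inv_ne_zero h2i) h1
      have e : (1 + i • -d) * (1 + i • b) * ((1 + i • c) * (1 + i • b)) * d =
          (2 * i) • ((1 + i • -d) * m) := by
        rw [hm, ← mul_smul_comm, ← smul_mul_assoc, hn3]
        simp only [mul_assoc]
      rwa [e, inv_smul_smul₀ h2i] at h2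
    rw [this, smul_mul_assoc]
    refine hG.smul_mem' (mul_ne_zero (inv_ne_zero hD.two_ne) fun h0 => ?_) hpair
    have := hD.sq_i
    rw [eq_neg_of_add_eq_zero_right h0] at this
    exact hD.two_ne (by linear_combination this)
  have hH2 : ∀ g : GL (Fin 2) F, (g : Matrix (Fin 2) (Fin 2) F) = !![1, 3; -1, 1] → g ∈ H := by
    intro g hg
    refine Or.inl ?_
    rw [hg]
    have : φ !![1, 3; -1, 1] = (2 : F) • D := by
      rw [hDeq, smul_inv_smul₀ hD.two_ne]
      simp only [hφ, blockMap, Matrix.of_apply, Matrix.cons_val', Matrix.cons_val_zero,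
        Matrix.cons_val_one, Matrix.empty_val', Matrix.cons_val_fin_one]
      have h3' : (3 : F) * (-3)⁻¹ = -1 := by field_simp
      rw [h3']
      simp only [hE₀, hE₁, mul_smul_comm, mul_add, mul_sub, mul_one]
      match_scalars <;> field_simp <;> first | ring1 | exact inv_mul_cancel₀ hD.two_ne | linear_combination (-1 : F) * inv_mul_cancel₀ hD.two_ne | linear_combination (2 : F) * inv_mul_cancel₀ hD.two_ne | linear_combination inv_mul_cancel₀ hD.two_ne
    rw [this]
    exact hG.smul_mem' hD.two_ne hDG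
  obtain ⟨g, hgH, hg00, hg11⟩ := hA H hH0 hH1 hH2
  set α := (g : Matrix (Fin 2) (Fin 2) F) 1 0 with hα
  have hα0 : α ≠ 0 := fun h0 => by
    have hdet : (g : Matrix (Fin 2) (Fin 2) F).det ≠ 0 :=
      ((Matrix.isUnit_iff_isUnit_det _).1 g.isUnit).ne_zero
    rw [Matrix.det_fin_two, hg00, ← hα, h0] at hdet
    simp at hdet
  -- an element of the centraliser of `d` acting as a multiple of `A` on its fixed space
  set w := x * φ (g : Matrix (Fin 2) (Fin 2) F) with hw
  obtain ⟨β, hweq⟩ : ∃ β : F, w = α • (A * E₀) + β • (A * E₁) := by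
    refine ⟨(g : Matrix (Fin 2) (Fin 2) F) 0 1 * (-3 : F)⁻¹, ?_⟩
    simp only [hw, hφ, blockMap, hg00, hg11, zero_smul, zero_add, mul_add, mul_smul_comm,
      ← mul_assoc, hu, hx, one_mul, ← hα]
  have hdw : d * w = w * d := by
    have e0 : Commute d E₀ := by
      rw [hE₀]; exact ((Commute.one_right d).add_right (Commute.refl d)).smul_right _
    have e1 : Commute d E₁ := by
      rw [hE₁]; exact ((Commute.one_right d).sub_right (Commute.refl d)).smul_right _
    rw [hweq]
    exact ((((show Commute d A from hdA).mul_right e0).smul_right α).add_right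
      (((show Commute d A from hdA).mul_right e1).smul_right β)).eq
  have hwv : ∀ v ∈ Eig d, w v = α • A v := fun v hv => by
    rw [mem_eig] at hv
    simp [hweq, hE₀, hE₁, hv, smul_smul]
    rw [← add_smul]
    congr 1
    field_simp
    first | ring1 | exact inv_mul_cancel₀ hD.two_ne | linear_combination inv_mul_cancel₀ hD.two_ne
  have hW := nontrivial_eig hD hdR hdd hdns
  have hDW := hD.res hdR hdd
  set B := resEl d b hdb with hB
  set C := resEl d c hdc with hC
  set AW := resEl d A hdA with hAW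
  have hBR : B ∈ Res d R := resEl_mem hbR hdb
  have hnm : ∀ p q : Module.End F (Eig d), -p * q = -(p * q) := fun p q => neg_mul p q
  have hBB : B * B = 1 := LinearMap.ext fun v => Subtype.ext (by
    simpa [hB] using congrArg (fun k : Module.End F V => k v) hb)
  have hCC : C * C = 1 := LinearMap.ext fun v => Subtype.ext (by
    simpa [hC] using congrArg (fun k : Module.End F V => k v) hc)
  have hBC : B * C = -(C * B) := LinearMap.ext fun v => Subtype.ext (by
    simpa [hB, hC] using congrArg (fun k : Module.End F V => k v) hbc)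
  have hAWeq : AW = i • C - i • B + C * B := LinearMap.ext fun v => Subtype.ext (by
    simp [hAW, hA', hB, hC])
  have hwW : resEl d w hdw = α • AW := LinearMap.ext fun v => Subtype.ext (by
    simp [hAW, hwv v v.2])
  obtain ⟨r, hr, hAB⟩ : ∃ r ∈ Res d R, AW * B = r * AW := by
    rcases hgH with hgG | hgG
    · have hN := hGood d hdR hdd hdns _ (resEl_mem (hG.mul_mem _ (hG.sub hxR) _ hgG) hdw)
      obtain ⟨r, hr, hwr⟩ := hN B hBR
      rw [hwW, smul_mul_assoc, mul_smul_comm] at hwr
      exact ⟨r, hr, smul_right_injective _ hα0 hwr⟩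
    · have hwm : d * (w * m) = w * m * d := by
        rw [← mul_assoc, hdw, mul_assoc, ← hmd, ← mul_assoc]
      have hwmG : w * m ∈ G := by
        rw [hw, mul_assoc]; exact hG.mul_mem _ (hG.sub hxR) _ hgG
      have hN := hGood d hdR hdd hdns _ (resEl_mem hwmG hwm)
      obtain ⟨r, hr, hwr⟩ := hN C (resEl_mem hcR hdc)
      refine ⟨r, hr, ?_⟩
      have hwm' : resEl d (w * m) hwm = α • (AW * (B + C)) := LinearMap.ext fun v => Subtype.ext (by
        have hv : d (v : V) = v := mem_eig.1 v.2
        have hnv : n (v : V) ∈ Eig d := comm_mem_eig hdn v.2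
        have e : m (v : V) = n v := by rw [hm, Module.End.mul_apply, hv]
        calc w (m (v : V)) = α • A (n (v : V)) := by rw [e, hwv _ hnv]
          _ = _ := by simp [hAW, hB, hC, hn', smul_add])
      rw [hwm', smul_mul_assoc, mul_smul_comm] at hwr
      have h1 := smul_right_injective _ hα0 hwr
      beta_reduce at h1
      rw [mul_assoc, show (B + C) * C = B * (B + C) by
        rw [add_mul, mul_add, hBB, hCC, add_comm], ← mul_assoc, ← mul_assoc] at h1
      have hsum : (B + C) * (B + C) = (2 : F) • 1 := by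
        rw [add_mul, mul_add, mul_add, hBB, hCC, hBC, two_smul]
        abel
      have h2 := congrArg (· * (B + C)) h1
      simp only [mul_assoc, hsum, mul_smul_comm, mul_one] at h2
      exact smul_right_injective _ hD.two_ne h2
  have hAAW : AW * AW = -(3 : F) • 1 := hAWeq ▸ mul_self_sum_eq_neg_three hDW hBB hCC hBC
  have hABA : AW * B + B * AW = (-2 * i) • 1 := by
    have hBCB : B * C * B = -C := by rw [hBC, hnm, mul_assoc, hBB, mul_one]
    simp only [hAWeq, add_mul, sub_mul, mul_add, mul_sub, smul_mul_assoc, mul_smul_comm,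
      ← mul_assoc, hBB, hBC, mul_assoc C B B, mul_one, hBCB]
    rw [show -(C * B) * B = -C by rw [hnm, mul_assoc, hBB, mul_one]]
    match_scalars <;> ring
  have hr' : r + B = ((2 : F) * i * (3 : F)⁻¹) • AW := by
    have h1 : (r + B) * AW = (-2 * i) • 1 := by rw [add_mul, ← hAB, hABA]
    have h2 := congrArg (· * AW) h1
    simp only [mul_assoc, hAAW, mul_smul_comm, mul_one, smul_mul_assoc, one_mul] at h2
    have h3' : -(3 : F) ≠ 0 := neg_ne_zero.2 h3
    rw [← inv_smul_smul₀ h3' (r + B), h2, smul_smul]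
    congr 1
    field_simp
  set κ := (2 : F) * i * (3 : F)⁻¹ with hκ
  have hκ0 : κ ≠ 0 := mul_ne_zero (mul_ne_zero hD.two_ne hD.i_ne) (inv_ne_zero h3)
  have hrB : r = κ • AW - B := by rw [← hr']; abel
  rcases hDW.comm_sign r hr B hBR with h | h
  · rw [hrB, sub_mul, mul_sub, sub_left_inj, smul_mul_assoc, mul_smul_comm] at h
    have h' := smul_right_injective _ hκ0 h
    have h1 : C * (1 + i • B) = 0 := by
      have e1 : AW * B - B * AW = (2 : F) • (C * (1 + i • B)) := by
        have hBCB : B * C * B = -C := by rw [hBC, hnm, mul_assoc, hBB, mul_one]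
        simp only [hAWeq, add_mul, sub_mul, mul_add, mul_sub, smul_mul_assoc, mul_smul_comm,
          ← mul_assoc, hBB, hBC, mul_one, hnm, mul_assoc C B B]
        match_scalars <;> ring
      rw [h', sub_self, eq_comm] at e1
      exact (smul_eq_zero.1 e1).resolve_left hD.two_ne
    have h2 : (1 + i • B) * (1 - i • B) = (2 : F) • 1 := by
      rw [mul_sub, mul_one, add_mul, one_mul, hDW.i_smul_sq, hBB, two_smul]; abel
    have h5 := congrArg (fun t => C * t * (1 - i • B)) h1
    simp only [← mul_assoc, hCC, one_mul, mul_zero, zero_mul, h2] at h5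
    exact hD.two_ne ((smul_eq_zero.1 h5).resolve_right one_ne_zero)
  · rw [eq_neg_iff_add_eq_zero, hrB, sub_mul, mul_sub, hBB, smul_mul_assoc, mul_smul_comm,
      sub_add_sub_comm, ← smul_add, hABA, smul_smul, ← two_smul F (1 : Module.End F (Eig d)),
      ← sub_smul, smul_eq_zero] at h
    have h := h.resolve_right one_ne_zero
    rw [hκ] at h
    field_simp at h
    apply hD.two_ne
    linear_combination (exp := 1) (-1 : F) * h - (4 : F) * hD.sq_i

end Cfsg.Agent.SU4.Six
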