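import Cfsg.Agent.SU4.Six.Defs
import Cfsg.Agent.MaxSub.CSixU.Trans

/-!
The plane: an isometric involution normalising a symplectic-type group over a prime field in which
two is a non-square lies in the group.
-/

set_option autoImplicit false
set_option linter.unusedSectionVars false

namespace Cfsg.Agent.SU4.Six

open Cfsg.Agent.MaxSub CSix Module
open Cfsg.Agent.Classical.U

section Trace

variable {F : Type*} [Field F] {V : Type*} [AddCommGroup V] [Module F V] [FiniteDimensional F V]
variable {i : F} {R : Set (Module.End F V)}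

lemma trace_eq_zero [Nontrivial V] (hD : Data i R) {r : Module.End F V} (hr : r ∈ R) (hns : NS r) :
    LinearMap.trace F V r = 0 := by
  obtain ⟨a, -, ha, hra⟩ := hD.exists_anticomm hr hns
  have h1 : LinearMap.trace F V (a * (r * a)) = LinearMap.trace F V r := by
    rw [LinearMap.trace_mul_comm, mul_assoc, ha, mul_one]
  rw [show r * a = -(a * r) from hra, mul_neg, ← mul_assoc, ha, one_mul, map_neg,
    neg_eq_iff_add_eq_zero, ← two_mul] at h1
  exact (mul_eq_zero.1 h1).resolve_left hD.two_ne

/-- The scalar by which a map acts on a line. -/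
lemma exists_scalar_of_rank_one {W : Submodule F V} (hW : finrank F W = 1) {f : Module.End F V}
    (hf : ∀ v ∈ W, f v ∈ W) : ∃ c : F, ∀ v ∈ W, f v = c • v := by
  obtain ⟨⟨w, hw⟩, hw0, hspan⟩ := finrank_eq_one_iff'.1 hW
  obtain ⟨c, hc⟩ := hspan ⟨f w, hf w hw⟩
  refine ⟨c, fun v hv => ?_⟩
  obtain ⟨t, ht⟩ := hspan ⟨v, hv⟩
  have e1 : t • w = v := congrArg Subtype.val ht
  have e2 : c • w = f w := congrArg Subtype.val hc
  rw [← e1, map_smul, ← e2, smul_comm]

/-- In the plane the centraliser of a non-scalar involution of `R` is spanned by it. -/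
lemma exists_of_commute [Nontrivial V] [Finite (Module.End F V)] (hD : Data i R) (hV : finrank F V = 2) {a : Module.End F V}
    (haR : a ∈ R) (ha : a * a = 1) (hns : NS a) {f : Module.End F V} (h : a * f = f * a) :
    ∃ u v : F, f = u • 1 + v • a := by
  have hm : -a ∈ R := hD.neg_mem haR
  have hm2 : -a * -a = 1 := by rw [neg_mul_neg, ha]
  have hmns : NS (-a) := by simpa using hns.smul (neg_ne_zero.2 one_ne_zero)
  have h1 : finrank F (Eig a) = 1 := by have := finrank_eig_of_mem hD haR ha hns; omega
  have h2 : finrank F (Eig (-a)) = 1 := by have := finrank_eig_of_mem hD hm hm2 hmns; omega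
  obtain ⟨α, hα⟩ := exists_scalar_of_rank_one h1 fun v hv => comm_mem_eig h hv
  obtain ⟨β, hβ⟩ := exists_scalar_of_rank_one h2 fun v hv =>
    comm_mem_eig (show -a * f = f * -a by rw [neg_mul, h, mul_neg]) hv
  refine ⟨(2 : F)⁻¹ * (α + β), (2 : F)⁻¹ * (α - β), eq_of_eig_eq hD.two_ne ha (fun v hv => ?_)
    fun v hv => ?_⟩
  · rw [hα v hv]
    simp only [LinearMap.add_apply, LinearMap.smul_apply, Module.End.one_apply, mem_eig.1 hv,
      ← add_smul]
    congr 1
    linear_combination (-α) * inv_mul_cancel₀ hD.two_ne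
  · rw [hβ v hv]
    have : a v = -v := by simpa [neg_eq_iff_eq_neg] using mem_eig.1 hv
    simp only [LinearMap.add_apply, LinearMap.smul_apply, Module.End.one_apply, this, smul_neg,
      ← sub_eq_add_neg, ← sub_smul]
    congr 1
    linear_combination (-β) * inv_mul_cancel₀ hD.two_ne

end Trace

variable {F : Type*} [Field F] [Finite F] {q : ℕ}

lemma two_pow_half (hF : SqField F q) (hq : q.Prime) (hq8 : q % 8 = 3) :
    (2 : F) ^ (q / 2) = -1 := by
  haveI := Fact.mk hq
  haveI := CSixU.char_eq_of_prime hF hq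
  have hne : (2 : ZMod q) ≠ 0 := by
    intro h
    have : q ∣ 2 := (ZMod.natCast_eq_zero_iff 2 q).1 (by exact_mod_cast h)
    have := Nat.le_of_dvd (by norm_num) this
    omega
  have hns : ¬ IsSquare (2 : ZMod q) := by
    rw [ZMod.exists_sq_eq_two_iff (by omega)]
    omega
  have h1 : (2 : ZMod q) ^ (q / 2) = -1 :=
    ((ZMod.pow_div_two_eq_neg_one_or_one q hne).resolve_left
      fun h => hns ((ZMod.euler_criterion q hne).2 h))
  have h2 := congrArg (ZMod.castHom (dvd_refl q) F) h1
  simpa [map_pow, map_ofNat] using h2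

/-- An isometric involution normalising `R` lies in `R`. -/
theorem mem_of_nrm_plane (hF : SqField F q) (hq : q.Prime) (hq8 : q % 8 = 3) {i : F}
    {R : Set (Module.End F (Fin 2 → F))} (hD : Data i R) (hR : CSixU.Isom q R)
    {Y : Module.End F (Fin 2 → F)} (hY : Y * Y = 1)
    (hYiso : ∀ u v, herm q (Y u) (Y v) = herm q u v) (hN : Nrm R Y) : Y ∈ R := by
  have : Finite (Module.End F (Fin 2 → F)) :=
    Finite.of_injective (fun f : Module.End F (Fin 2 → F) => (f : (Fin 2 → F) → (Fin 2 → F)))
      DFunLike.coe_injective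
  have hfr : finrank F (Fin 2 → F) = 2 := by simp
  have hY0 : Y ≠ 0 := fun h => by simp [h] at hY
  suffices hsign : ∀ b ∈ R, b * b = 1 → b * Y = Y * b ∨ b * Y = -(Y * b) by
    obtain ⟨c, r, hr, hYr⟩ := hD.exists_eq_smul_of_sign hY0 fun b hb => by
      obtain ⟨c, hc, hcm, hcsq⟩ := hD.exists_sq_one hb
      refine (hsign _ hcm hcsq).imp (fun e => ?_) (fun e => ?_)
      · rw [smul_mul_assoc, mul_smul_comm] at e
        exact smul_right_injective _ hc e
      · rw [smul_mul_assoc, mul_smul_comm] at e
        exact smul_right_injective _ hc (e.trans (smul_neg c _).symm)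
    exact hYr ▸ hD.smul_mem_of_sq hr (hYr ▸ hY)
  intro b hb hbb
  by_contra hcon
  push Not at hcon
  obtain ⟨hcon1, hcon2⟩ := hcon
  obtain ⟨b', hb', hYb⟩ := hN b hb
  have hb'e : b' = Y * b * Y := by rw [hYb, mul_assoc, hY, mul_one]
  have hb'b' : b' * b' = 1 := by rw [hb'e, conj_mul_conj hY, hbb, mul_one, hY]
  have hbns : NS b := fun c hc => hcon1 (by rw [hc, smul_mul_assoc, mul_smul_comm, one_mul, mul_one])
  rcases hD.comm_sign b hb b' hb' with h | h
  · obtain ⟨u, v, huv⟩ := exists_of_commute hD hfr hb hbb hbns h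
    have hb'ns : NS b' := fun c hc => hbns c (by
      have : b = Y * b' * Y := by rw [hb'e]; exact (conj_conj hY b).symm
      rw [this, hc, mul_smul_comm, mul_one, smul_mul_assoc, hY])
    have e := huv ▸ hb'b'
    have e' : (u * u + v * v - 1) • (1 : Module.End F (Fin 2 → F)) + (2 * (u * v)) • b = 0 := by
      rw [← sub_eq_zero.2 e]
      simp only [mul_add, add_mul, mul_one, one_mul, smul_mul_assoc, mul_smul_comm, hbb, smul_smul]
      module
    have huv0 : u * v = 0 := by
      by_contra hne
      refine hbns (-(2 * (u * v))⁻¹ * (u * u + v * v - 1)) ?_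
      have h2 := eq_neg_of_add_eq_zero_right e'
      rw [← inv_smul_smul₀ (mul_ne_zero hD.two_ne hne) b, h2]
      module
    rw [huv0, mul_zero, zero_smul, add_zero] at e'
    have h1 : u * u + v * v - 1 = 0 := smul_one_inj (V := Fin 2 → F) (by rw [e', zero_smul])
    rcases mul_eq_zero.1 huv0 with h0 | h0
    · subst h0
      rw [zero_smul, zero_add] at huv
      have hvv : v * v = 1 := by linear_combination h1
      have hYb' : Y * b = b' * Y := hYb
      rw [huv, smul_mul_assoc] at hYb'
      rcases mul_self_eq_one_iff.1 hvv with h3 | h3 <;> rw [h3] at hYb'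
      · exact hcon1 (by rw [hYb', one_smul])
      · exact hcon2 (by rw [hYb']; module)
    · subst h0
      rw [zero_smul, add_zero] at huv
      exact hb'ns u huv
  set s := b + b' with hs
  set z := b - b' with hz
  have hss : s * s = (2 : F) • 1 := by
    rw [hs, add_mul, mul_add, mul_add, hbb, hb'b', h, two_smul]; abel
  have hzz : z * z = (2 : F) • 1 := by
    rw [hz, sub_mul, mul_sub, mul_sub, hbb, hb'b', h, two_smul]; abel
  have hYb' : Y * b' = b * Y := by rw [hb'e, ← mul_assoc, ← mul_assoc, hY, one_mul]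
  have hYs : s * Y = Y * s := by rw [hs, mul_add, add_mul, hYb, hYb', add_comm]
  have hYz : z * Y = -(Y * z) := by rw [hz, mul_sub, sub_mul, hYb, hYb', neg_sub]
  have hzne : z ≠ 0 := fun h0 => by
    rw [h0, zero_mul, eq_comm] at hzz
    exact hD.two_ne ((smul_eq_zero.1 hzz).resolve_right one_ne_zero)
  have hYns : NS Y := NS.of_anticomm hD.two_ne (g := z) (by rw [hYz, neg_neg]) (by simp [hY]) hzne
  -- the centraliser of `s` is spanned by it
  have hsns : NS s := by
    intro c hc
    have e1 : b' = c • 1 - b := by rw [← hc, hs, add_sub_cancel_left]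
    rw [e1, sub_mul, mul_sub, smul_mul_assoc, one_mul, mul_smul_comm, mul_one, hbb, neg_sub] at h
    have hcb : c • b = 1 := by
      refine smul_right_injective _ hD.two_ne (show (2 : F) • c • b = (2 : F) • 1 from ?_)
      rw [two_smul, two_smul]
      calc c • b + c • b = (c • b - 1) - (1 - c • b) + (1 + 1) := by abel
        _ = 1 + 1 := by rw [h]; abel
    rcases eq_or_ne c 0 with h0 | h0
    · rw [hc, h0, zero_smul, zero_mul, eq_comm] at hss
      exact hD.two_ne ((smul_eq_zero.1 hss).resolve_right one_ne_zero)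
    · exact hbns c⁻¹ (by rw [← hcb, inv_smul_smul₀ h0])
  obtain ⟨α, β, hYs'⟩ : ∃ α β : F, Y = α • 1 + β • s := by
    by_contra hne
    push Not at hne
    obtain ⟨w, hw⟩ : ∃ w, ∀ c : F, s w ≠ c • w := by
      by_contra hsc
      push Not at hsc
      obtain ⟨c, hc⟩ := LinearMap.exists_eq_smul_id_of_forall_notLinearIndependent
        (f := s) fun v => by
          rw [LinearIndependent.pair_iff]
          obtain ⟨c, hc⟩ := hsc v
          intro hv'
          exact neg_ne_zero.2 one_ne_zero
            (hv' c (-1) (by rw [hc, neg_one_smul, add_neg_cancel])).2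
      exact hsns c hc
    have hli : LinearIndependent F ![w, s w] := LinearIndependent.pair_iff.2 fun a' b'' hab => by
      by_cases hb0 : b'' = 0
      · rw [hb0, zero_smul, add_zero] at hab
        refine ⟨(smul_eq_zero.1 hab).resolve_right fun h0 => ?_, hb0⟩
        exact hw 0 (by rw [h0, map_zero, zero_smul])
      · exfalso
        refine hw (-(b''⁻¹ * a')) ?_
        rw [neg_smul, mul_smul, ← smul_neg, ← inv_smul_smul₀ hb0 (s w)]
        congr 1
        exact eq_neg_of_add_eq_zero_right hab
    let B := basisOfLinearIndependentOfCardEqFinrank hli (by simp)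
    have hB0 : B 0 = w := by simp [B]
    have hB1 : B 1 = s w := by simp [B]
    obtain ⟨a₀, b₀, hab₀⟩ : ∃ a₀ b₀ : F, Y w = a₀ • w + b₀ • s w := by
      refine ⟨B.repr (Y w) 0, B.repr (Y w) 1, ?_⟩
      rw [← hB1, ← hB0]
      conv_lhs => rw [← B.sum_repr (Y (B 0)), Fin.sum_univ_two]
    refine hne a₀ b₀ (B.ext fun k => ?_)
    have hsw : Y (s w) = s (Y w) := (congrArg (fun g : Module.End F _ => g w) hYs).symm
    fin_cases k
    · simp [hB0, hab₀]
    · simp [hB1, hsw, hab₀]
  have hαβ : (α * α + β * β * 2 - 1) • (1 : Module.End F (Fin 2 → F)) + (2 * (α * β)) • s = 0 := by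
    rw [← sub_eq_zero.2 (hYs' ▸ hY)]
    simp only [mul_add, add_mul, mul_one, one_mul, smul_mul_assoc, mul_smul_comm, hss, smul_smul]
    module
  have hαβ0 : α * β = 0 := by
    by_contra hne
    refine hsns (-(2 * (α * β))⁻¹ * (α * α + β * β * 2 - 1)) ?_
    have h2 := eq_neg_of_add_eq_zero_right hαβ
    rw [← inv_smul_smul₀ (mul_ne_zero hD.two_ne hne) s, h2]
    module
  rw [hαβ0, mul_zero, zero_smul, add_zero] at hαβ
  have h2 : α * α + β * β * 2 - 1 = 0 := smul_one_inj (V := Fin 2 → F) (by rw [hαβ, zero_smul])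
  rcases mul_eq_zero.1 hαβ0 with h0 | h0
  swap
  · exact hYns α (by rw [hYs', h0, zero_smul, add_zero])
  subst h0
  rw [zero_smul, zero_add] at hYs'
  have hb2 : β * β * 2 = 1 := by linear_combination h2
  have hβ0 : β ≠ 0 := fun h0 => by simp [h0] at hb2
  -- `s` is self-adjoint
  have hsa : ∀ r ∈ R, r * r = 1 → ∀ u v, herm q (r u) v = herm q u (r v) := fun r hr hrr u v => by
    conv_rhs => rw [← hR r hr, ← Module.End.mul_apply r r v, hrr, Module.End.one_apply]
  set e : Fin 2 → F := Pi.single 0 1 with he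
  have hee : herm q e e = 1 := by rw [he, herm_single_one _ hF.q_ne_zero]; simp
  have hse : herm q (s e) (s e) = 2 := by
    have h3 : s (s e) = (2 : F) • e := by
      simpa using congrArg (fun g : Module.End F _ => g e) hss
    calc herm q (s e) (s e) = herm q e (b (s e)) + herm q e (b' (s e)) := by
          conv_lhs => arg 2; rw [hs]
          rw [LinearMap.add_apply, herm_add_left, hsa b hb hbb, hsa b' hb' hb'b']
      _ = herm q e ((2 : F) • e) := by rw [← hF.herm_add_right, ← LinearMap.add_apply, ← hs, h3]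
      _ = 2 := by
          rw [herm_smul_right, hee, mul_one]
          haveI := CSixU.char_eq_of_prime hF hq
          haveI := Fact.mk hq
          exact map_ofNat (frobenius F q) 2
  have hN1 : β * β ^ q * 2 = 1 := by
    have := hYiso e e
    rw [hYs', LinearMap.smul_apply, herm_smul_left, herm_smul_right, hse, hee] at this
    linear_combination this
  have hβq : β ^ (q - 1) = 1 := by
    have h4 : β ^ q = β := mul_left_cancel₀ hβ0
      (mul_right_cancel₀ hD.two_ne (hN1.trans hb2.symm))
    refine mul_left_cancel₀ hβ0 ?_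
    rw [mul_one, ← pow_succ', show q - 1 + 1 = q by have := hq.two_le; omega]
    exact h4
  have h5 : (β * β) ^ (q / 2) = -1 := by
    have h6 : ((β * β) ^ (q / 2)) * 2 ^ (q / 2) = 1 := by rw [← mul_pow, hb2, one_pow]
    rw [two_pow_half hF hq hq8, mul_neg, mul_one] at h6
    rw [← h6, neg_neg]
  rw [← pow_two, ← pow_mul, show 2 * (q / 2) = q - 1 by omega, hβq] at h5
  exact hD.two_ne (by linear_combination h5)

end Cfsg.Agent.SU4.Six
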